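import Cfsg.Agent.Lib.UnitarySylowAut
import Mathlib.FieldTheory.Finite.GaloisField

/-!
The properties of a Sylow `2`-subgroup of `PSU(3, 2ⁿ)` used for its classification.
-/

set_option autoImplicit false
set_option linter.unusedSectionVars false

namespace CfsgLib.U3Type

open Subgroup CfsgLib.PSUBorel CfsgLib.UnitarySylowAut
open scoped commutatorElement

universe u

/-- The structure of the group, with the Galois action of the automorphisms on the centre. -/
structure U3 (W : Type u) [Group W] (n : ℕ) : Prop where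
  card : Nat.card W = 2 ^ (3 * n)
  card_center : Nat.card (center W) = 2 ^ n
  inv : ∀ x : W, x * x = 1 → x ∈ center W
  cen : ∀ x ∈ center W, x * x = 1
  sq : ∀ x : W, x * x ∈ center W
  cc : ∀ x y : W, ⁅x, y⁆ ∈ center W
  root : ∀ z ∈ center W, ∃ y : W, y * y = z
  cent_comm : ∀ u : W, u ∉ center W → ∀ v w : W, v * u = u * v → w * u = u * w → v * w = w * v
  card_cent : ∀ u : W, u ∉ center W → Nat.card (centralizer ({u} : Set W)) = 2 ^ (2 * n)
  gal_pow : ∀ θ : MulAut W, ∀ a ∈ center W, a ≠ 1 → θ a = a → ∀ z ∈ center W, (θ ^ n) z = z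
  gal_orbit : ∀ a ∈ center W, a ≠ 1 → ∀ z ∈ center W,
    Set.ncard {w : W | ∃ θ : MulAut W, θ a = a ∧ θ z = w} ≤ n
  gal_fix : ∀ θ : MulAut W, ∀ a ∈ center W, a ≠ 1 → θ a = a → (∃ z ∈ center W, θ z ≠ z) →
    Nat.card {z : W // z ∈ center W ∧ θ z = z} ^ 2 ≤ 2 ^ n

variable {F : Type} [Field F] [Fintype F] [CharP F 2] {c : Conj F}

/-- The fixed field. -/
def fixField (c : Conj F) : Subfield F := RingHom.eqLocusField c.σ (RingHom.id F)

theorem mem_fixField {b : F} : b ∈ fixField c ↔ c.σ b = b := Iff.rfl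

theorem card_fixField {n : ℕ} (hF : Fintype.card F = 4 ^ n) : Nat.card (fixField c) = 2 ^ n :=
  card_fixed (c := c) hF

theorem card_aut {K : Type} [Field K] [Finite K] [CharP K 2] {n : ℕ} (hK : Nat.card K = 2 ^ n) :
    Nat.card (K ≃+* K) = n := by
  haveI := Fintype.ofFinite K
  letI : Algebra (ZMod 2) K := ZMod.algebra K 2
  haveI : Fact (Nat.Prime 2) := ⟨Nat.prime_two⟩
  rw [Nat.card_congr (β := K ≃ₐ[ZMod 2] K)
    { toFun := fun φ => AlgEquiv.ofRingEquiv (f := φ) fun x =>
        RingHom.congr_fun (Subsingleton.elim ((φ : K →+* K).comp (algebraMap (ZMod 2) K)) (algebraMap (ZMod 2) K)) x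
      invFun := fun φ => φ.toRingEquiv
      left_inv := fun φ => RingEquiv.ext fun x => rfl
      right_inv := fun φ => AlgEquiv.ext fun x => rfl },
    IsGalois.card_aut_eq_finrank]
  have h := Module.natCard_eq_pow_finrank (K := ZMod 2) (V := K)
  rw [hK, Nat.card_zmod] at h
  exact (Nat.pow_right_injective le_rfl h).symm

variable {W : Type u} [Group W] (M : Model c W)

theorem mem_center_iff' (x : W) : x ∈ center W ↔ (M.κ x).1 = 0 := by
  have h2 : (2 : F) = 0 := CharTwo.two_eq_zero
  constructor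
  · intro hx
    by_contra h0
    obtain ⟨t, ht⟩ := c.exists_moved
    obtain ⟨y, hy⟩ := M.lift ((M.κ x).1 * t)
    have e := congrArg (fun w => (M.κ w).2) (mem_center_iff.mp hx y)
    simp only [M.mul, hy, map_mul] at e
    have e' : (M.κ x).1 * c.σ (M.κ x).1 * (t - c.σ t) = 0 := by linear_combination -e
    rcases mul_eq_zero.mp e' with e1 | e1
    · rcases mul_eq_zero.mp e1 with e2 | e2
      exacts [h0 e2, h0 ((map_eq_zero _).mp e2)]
    · exact ht (sub_eq_zero.mp e1).symm
  · intro h0
    refine mem_center_iff.mpr fun y => M.inj ?_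
    rw [M.mul, M.mul, h0]
    simp [add_comm]

theorem commute_iff (x y : W) :
    x * y = y * x ↔ (M.κ x).1 * c.σ (M.κ y).1 = (M.κ y).1 * c.σ (M.κ x).1 := by
  rw [← M.inj.eq_iff, M.mul, M.mul, Prod.mk.injEq]
  constructor
  · intro h; linear_combination -h.2
  · intro h; exact ⟨add_comm _ _, by linear_combination -h⟩

theorem center_snd {z : W} (hz : z ∈ center W) : (M.κ z).2 ∈ fixField c := by
  have h := M.mem z
  rw [(mem_center_iff' M z).mp hz, zero_mul, add_zero] at h
  exact (CharTwo.add_eq_zero.1 h).symm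

theorem center_eq {z w : W} (hz : z ∈ center W) (hw : w ∈ center W) (h : (M.κ z).2 = (M.κ w).2) : z = w :=
  M.inj (Prod.ext (((mem_center_iff' M z).mp hz).trans ((mem_center_iff' M w).mp hw).symm) h)

include M in
theorem exists_root {z : W} (hz : z ∈ center W) : ∃ y : W, y * y = z := by
  obtain ⟨b, hb⟩ := c.exists_norm (center_snd M hz)
  obtain ⟨y, hy⟩ := M.lift b
  exact ⟨y, M.inj (by
    rw [M.sq, hy, hb]
    exact Prod.ext ((mem_center_iff' M z).mp hz).symm rfl)⟩

include M in
theorem card_center_eq {n : ℕ} (hF : Fintype.card F = 4 ^ n) : Nat.card (center W) = 2 ^ n := by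
  rw [← card_fixField (c := c) hF]
  refine Nat.card_eq_of_bijective (fun z => ⟨(M.κ z).2, center_snd M z.2⟩) ⟨fun z w h => ?_, fun k => ?_⟩
  · exact Subtype.ext (center_eq M z.2 w.2 (congrArg Subtype.val h))
  · obtain ⟨x, hx⟩ := M.central k.2
    exact ⟨⟨x, (mem_center_iff' M x).mpr (by rw [hx])⟩, Subtype.ext (by show (M.κ x).2 = _; rw [hx])⟩

/-- The first coordinate. -/
def fst : W →* Multiplicative F where
  toFun x := Multiplicative.ofAdd (M.κ x).1
  map_one' := by rw [M.one]; rfl
  map_mul' x y := by rw [M.mul]; rfl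

include M in
theorem card_eq {n : ℕ} (hF : Fintype.card F = 4 ^ n) : Nat.card W = 2 ^ (3 * n) := by
  have hk : (fst M).ker = center W := by
    ext x
    rw [mem_center_iff' M x]
    exact ⟨fun h => Multiplicative.ofAdd.injective h, fun h => by
      show Multiplicative.ofAdd (M.κ x).1 = 1
      rw [h]; rfl⟩
  have hr : Function.Surjective (fst M) := fun a => by
    obtain ⟨x, hx⟩ := M.lift a.toAdd
    exact ⟨x, congrArg Multiplicative.ofAdd hx⟩
  rw [← Subgroup.card_mul_index (fst M).ker, Subgroup.index_ker, hk, card_center_eq M hF,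
    MonoidHom.range_eq_top.mpr hr, Subgroup.card_top]
  show 2 ^ n * Nat.card F = _
  rw [Nat.card_eq_fintype_card, hF, show (4 : ℕ) = 2 ^ 2 from rfl, ← pow_mul, ← pow_add]
  ring_nf

include M in
theorem card_cent_eq [Finite W] {n : ℕ} (hF : Fintype.card F = 4 ^ n) {u : W} (hu : u ∉ center W) :
    Nat.card (centralizer ({u} : Set W)) = 2 ^ (2 * n) := by
  have h0 : (M.κ u).1 ≠ 0 := fun e => hu ((mem_center_iff' M u).mpr e)
  set C := centralizer ({u} : Set W)
  have hk : ∀ x : C, (M.κ x).1 / (M.κ u).1 ∈ fixField c := fun x => by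
    have e := (commute_iff M x u).mp (mem_centralizer_singleton_iff.mp x.2)
    rw [mem_fixField, map_div₀, div_eq_div_iff ((map_ne_zero _).mpr h0) h0]
    linear_combination -e
  let f : C →* Multiplicative (fixField c) :=
    { toFun := fun x => Multiplicative.ofAdd ⟨(M.κ x).1 / (M.κ u).1, hk x⟩
      map_one' := congrArg Multiplicative.ofAdd (Subtype.ext (by simp [M.one]))
      map_mul' := fun x y => congrArg Multiplicative.ofAdd (Subtype.ext (by simp [M.mul, add_div])) }
  have hcC : center W ≤ C := fun x hx => mem_centralizer_singleton_iff.mpr (mem_center_iff.mp hx u).symm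
  have hker : f.ker = (center W).subgroupOf C := by
    ext x
    rw [mem_subgroupOf, mem_center_iff' M x]
    constructor
    · intro h
      have h1 : (M.κ x).1 / (M.κ u).1 = 0 := congrArg Subtype.val (Multiplicative.ofAdd.injective h)
      exact (div_eq_zero_iff.mp h1).resolve_right h0
    · intro h
      exact congrArg Multiplicative.ofAdd (Subtype.ext (by simp [h]))
  have hr : Function.Surjective f := fun a => by
    obtain ⟨x, hx⟩ := M.lift ((a.toAdd : F) * (M.κ u).1)
    refine ⟨⟨x, mem_centralizer_singleton_iff.mpr ((commute_iff M x u).mpr ?_)⟩,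
      congrArg Multiplicative.ofAdd (Subtype.ext ?_)⟩
    · rw [hx, map_mul, show c.σ (a.toAdd : F) = a.toAdd from a.toAdd.2]
      ring
    · show (M.κ x).1 / _ = _
      rw [hx, mul_div_cancel_right₀ _ h0]
      rfl
  rw [← Subgroup.card_mul_index f.ker, Subgroup.index_ker, hker, MonoidHom.range_eq_top.mpr hr, Subgroup.card_top,
    Nat.card_congr (subgroupOfEquivOfLe hcC).toEquiv, card_center_eq M hF]
  show 2 ^ n * Nat.card (fixField c) = _
  rw [card_fixField hF, ← pow_add, two_mul]

include M in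
theorem act_center [Finite W] (θ : MulAut W) : ∃ (m : F) (φ : F ≃+* F), ∀ z ∈ center W,
    (M.κ (θ z)).2 = m * φ (M.κ z).2 := by
  obtain ⟨u, φ, hu⟩ := M.semilinear θ
  refine ⟨u * c.σ u, φ, fun z hz => ?_⟩
  obtain ⟨y, rfl⟩ := exists_root M hz
  rw [map_mul, M.sq, M.sq]
  show (M.κ (θ y)).1 * c.σ (M.κ (θ y)).1 = _ * φ ((M.κ y).1 * c.σ (M.κ y).1)
  rw [hu, map_mul, map_mul, sigma_comm]
  ring

/-- In coordinates scaled at a fixed point, the action is a field automorphism. -/
theorem act_scaled [Finite W] {a : W} (ha : a ∈ center W) (ha1 : a ≠ 1) (θ : MulAut W) (hθ : θ a = a) :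
    ∃ ψ : fixField c ≃+* fixField c, ∀ z (hz : z ∈ center W) (hz' : θ z ∈ center W),
      (⟨(M.κ (θ z)).2 / (M.κ a).2, div_mem (center_snd M hz') (center_snd M ha)⟩ : fixField c) =
        ψ ⟨(M.κ z).2 / (M.κ a).2, div_mem (center_snd M hz) (center_snd M ha)⟩ := by
  obtain ⟨m, φ, h⟩ := act_center M θ
  have ha0 : (M.κ a).2 ≠ 0 := fun e => ha1 (center_eq M ha (one_mem _) (by rw [e, M.one]))
  have hφ : ∀ x : fixField c, φ x ∈ fixField c := fun x => by
    rw [mem_fixField, ← sigma_comm, show c.σ (x : F) = x from x.2]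
  let f : fixField c →+* fixField c :=
    ((φ : F →+* F).comp (fixField c).subtype).codRestrict (fixField c) hφ
  refine ⟨RingEquiv.ofBijective f (Finite.injective_iff_bijective.1 f.injective), fun z hz hz' => Subtype.ext ?_⟩
  show (M.κ (θ z)).2 / (M.κ a).2 = φ ((M.κ z).2 / (M.κ a).2)
  have e := h a ha
  rw [hθ] at e
  have hm : m ≠ 0 := fun e' => ha0 (by rw [e, e', zero_mul])
  rw [h z hz, map_div₀]
  conv_lhs => rw [e]
  rw [mul_div_mul_left _ _ hm]

include M in
/-- The properties, from coordinates. -/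
theorem u3_of_model [Finite W] {n : ℕ} (hF : Fintype.card F = 4 ^ n) : U3 W n := by
  classical
  have hK : Nat.card (fixField c) = 2 ^ n := card_fixField hF
  haveI : CharP (fixField c) 2 := (fixField c).subtype.charP_iff_charP 2 |>.mpr inferInstance
  haveI : Finite (fixField c ≃+* fixField c) := Finite.of_injective (fun φ : fixField c ≃+* fixField c => (φ : fixField c → fixField c)) DFunLike.coe_injective
  have hmap : ∀ (θ : MulAut W) {z : W}, z ∈ center W → θ z ∈ center W := fun θ z hz =>
    mem_center_iff.mpr fun y => by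
      have := congrArg θ (mem_center_iff.mp hz (θ⁻¹ y))
      rwa [map_mul, map_mul, MulAut.apply_inv_self] at this
  let e : ∀ (a : W), a ∈ center W → ∀ (z : W), z ∈ center W → fixField c := fun a ha z hz =>
    ⟨(M.κ z).2 / (M.κ a).2, div_mem (center_snd M hz) (center_snd M ha)⟩
  have heinj : ∀ a (ha : a ∈ center W), a ≠ 1 → ∀ z (hz : z ∈ center W) w (hw : w ∈ center W),
      e a ha z hz = e a ha w hw → z = w := fun a ha ha1 z hz w hw h => by
    have ha0 : (M.κ a).2 ≠ 0 := fun e => ha1 (center_eq M ha (one_mem _) (by rw [e, M.one]))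
    exact center_eq M hz hw ((div_left_inj' ha0).mp (congrArg Subtype.val h))
  refine ⟨card_eq M hF, card_center_eq M hF, fun x hx => ?_, fun x hx => ?_, fun x => ?_, fun x y => ?_,
    fun z hz => exists_root M hz, ?_, fun u hu => card_cent_eq M hF hu, ?_, ?_, ?_⟩
  · exact (mem_center_iff' M x).mpr ((M.sq_eq_one x).mp hx)
  · exact (M.sq_eq_one x).mpr ((mem_center_iff' M x).mp hx)
  · exact (mem_center_iff' M _).mpr (by rw [M.sq])
  · refine (mem_center_iff' M _).mpr ?_
    have h := congrArg Multiplicative.toAdd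
      ((commutatorElement_eq_one_iff_mul_comm.mpr (mul_comm (fst M x) (fst M y))))
    rw [← map_commutatorElement] at h
    exact h
  · intro u hu v w hv hw
    rw [commute_iff M] at hv hw ⊢
    have h0 : (M.κ u).1 ≠ 0 := fun e => hu ((mem_center_iff' M u).mpr e)
    have hσ : c.σ (M.κ u).1 ≠ 0 := fun e => h0 ((map_eq_zero _).mp e)
    refine mul_right_cancel₀ (mul_ne_zero h0 hσ) ?_
    linear_combination (-((M.κ u).1 * c.σ (M.κ v).1)) * hw - (-((M.κ u).1 * c.σ (M.κ w).1)) * hv
  · intro θ a ha ha1 hθ z hz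
    obtain ⟨ψ, hψ⟩ := act_scaled M ha ha1 θ hθ
    have hit : ∀ i : ℕ, ∀ hi : (θ ^ i) z ∈ center W, e a ha ((θ ^ i) z) hi = (ψ ^ i) (e a ha z hz) := by
      intro i
      induction i with
      | zero => intro hi; rfl
      | succ i ih =>
        intro hi
        have h1 := hψ ((θ ^ i) z) (hmap _ hz) (hmap θ (hmap _ hz))
        rw [pow_succ' ψ, RingAut.mul_apply, ← ih (hmap _ hz), ← h1]
        refine Subtype.ext ?_
        show (M.κ ((θ ^ (i + 1)) z)).2 / _ = _
        rw [pow_succ', MulAut.mul_apply]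
    refine heinj a ha ha1 _ (hmap _ hz) _ hz ?_
    rw [hit n (hmap _ hz), ← card_aut hK, pow_card_eq_one', RingAut.one_apply]
  · intro a ha ha1 z hz
    rw [← card_aut hK, ← Nat.card_coe_set_eq]
    choose θ hθa hθz using fun w : {w : W | ∃ θ : MulAut W, θ a = a ∧ θ z = w} => w.2
    choose ψ hψ using fun w => act_scaled M ha ha1 (θ w) (hθa w)
    refine Nat.card_le_card_of_injective ψ fun w₁ w₂ h => Subtype.ext ?_
    rw [← hθz w₁, ← hθz w₂]
    exact heinj a ha ha1 _ (hmap _ hz) _ (hmap _ hz)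
      ((hψ w₁ z hz (hmap _ hz)).trans ((DFunLike.congr_fun h _).trans (hψ w₂ z hz (hmap _ hz)).symm))
  · rintro θ a ha ha1 hθ ⟨w, hw, hwm⟩
    obtain ⟨ψ, hψ⟩ := act_scaled M ha ha1 θ hθ
    set K0 : Subfield (fixField c) := RingHom.eqLocusField (ψ : fixField c →+* fixField c) (RingHom.id _)
    have hne : K0 ≠ ⊤ := fun h => hwm (heinj a ha ha1 _ (hmap θ hw) _ hw (by
      have h1 := hψ w hw (hmap θ hw)
      refine h1.trans ?_
      exact (h ▸ Subfield.mem_top _ : e a ha w hw ∈ K0)))
    have hfin : 2 ≤ Module.finrank K0 (fixField c) := by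
      by_contra hlt
      have hpos : 0 < Module.finrank K0 (fixField c) := Module.finrank_pos
      have h1 : Module.finrank K0 (fixField c) = 1 := by omega
      have hc := Module.natCard_eq_pow_finrank (K := K0) (V := fixField c)
      rw [h1, pow_one] at hc
      refine hne (eq_top_iff.mpr fun x _ => ?_)
      have hb : Function.Bijective (Subtype.val : K0 → fixField c) :=
        (Nat.bijective_iff_injective_and_card _).mpr ⟨Subtype.val_injective, hc.symm⟩
      obtain ⟨y, rfl⟩ := hb.2 x
      exact y.2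
    have hc := Module.natCard_eq_pow_finrank (K := K0) (V := fixField c)
    rw [← hK, hc]
    refine le_trans (Nat.pow_le_pow_left ?_ 2) (Nat.pow_le_pow_right Nat.card_pos hfin)
    refine Nat.card_le_card_of_injective (fun z => (⟨e a ha z.1 z.2.1, ?_⟩ : K0)) fun z₁ z₂ h => ?_
    · show ψ _ = _
      rw [← hψ z.1 z.2.1 (hmap θ z.2.1)]
      exact Subtype.ext (by show _ / _ = _ / _; rw [z.2.2])
    · exact Subtype.ext (heinj a ha ha1 _ z₁.2.1 _ z₂.2.1 (congrArg Subtype.val h))

end CfsgLib.U3Type
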