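import Cfsg.Agent.Lib.U3Type.Model
import Cfsg.Agent.Lib.U34Char.Basic
import Cfsg.Agent.Lib.PiClosedTwo.Klein

/-!
The centre of a Sylow `2`-subgroup of unitary type inside the group.
-/

set_option autoImplicit false
set_option linter.unusedSectionVars false

namespace CfsgLib.U3Type

open Subgroup Cfsg CfsgLib.HallE8 CfsgLib.ZCReduction CfsgLib.PiClosedTwo
open scoped commutatorElement

universe u v

/-- Transport along an isomorphism. -/
theorem U3.of_equiv {W : Type u} [Group W] [Finite W] {V : Type v} [Group V] [Finite V] {n : ℕ} (h : U3 W n)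
    (e : W ≃* V) : U3 V n := by
  have hc : ∀ x : W, x ∈ center W ↔ e x ∈ center V := fun x => by
    rw [← e.symm_apply_apply x]
    simp only [mem_center_iff, e.apply_symm_apply, e.symm_apply_apply]
    refine ⟨fun h y => ?_, fun h y => ?_⟩
    · have := congrArg e (h (e.symm y))
      rwa [map_mul, map_mul, e.apply_symm_apply] at this
    · refine e.injective ?_
      rw [map_mul, map_mul]
      exact h (e y)
  let pull : MulAut V → MulAut W := fun θ => e.trans (θ.trans e.symm)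
  have hpull : ∀ θ x, e (pull θ x) = θ (e x) := fun θ x => e.apply_symm_apply _
  have hpow : ∀ θ (k : ℕ) x, e ((pull θ ^ k) x) = (θ ^ k) (e x) := by
    intro θ k
    induction k with
    | zero => intro x; rfl
    | succ k ih => intro x; rw [pow_succ', pow_succ', MulAut.mul_apply, MulAut.mul_apply, hpull, ih]
  have hfix : ∀ θ a, θ (e a) = e a → pull θ a = a := fun θ a hθ => e.injective (by rw [hpull, hθ])
  refine ⟨by rw [← h.card]; exact Nat.card_congr e.toEquiv.symm, ?_, fun y hy => ?_, fun y hy => ?_, fun y => ?_,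
    fun y z => ?_, fun y hy => ?_, ?_, fun y hy => ?_, ?_, ?_, ?_⟩
  · rw [← h.card_center]
    exact Nat.card_congr (e.toEquiv.subtypeEquiv fun x => hc x).symm
  · obtain ⟨x, rfl⟩ := e.surjective y
    exact (hc x).mp (h.inv x (e.injective (by rw [map_mul, hy, map_one])))
  · obtain ⟨x, rfl⟩ := e.surjective y
    rw [← map_mul, h.cen x ((hc x).mpr hy), map_one]
  · obtain ⟨x, rfl⟩ := e.surjective y
    rw [← map_mul]
    exact (hc _).mp (h.sq x)
  · obtain ⟨x, rfl⟩ := e.surjective y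
    obtain ⟨w, rfl⟩ := e.surjective z
    rw [← map_commutatorElement]
    exact (hc _).mp (h.cc x w)
  · obtain ⟨x, rfl⟩ := e.surjective y
    obtain ⟨w, hw⟩ := h.root x ((hc x).mpr hy)
    exact ⟨e w, by rw [← map_mul, hw]⟩
  · intro u hu v w hv hw
    obtain ⟨u, rfl⟩ := e.surjective u
    obtain ⟨v, rfl⟩ := e.surjective v
    obtain ⟨w, rfl⟩ := e.surjective w
    rw [← map_mul, ← map_mul] at hv hw ⊢
    rw [h.cent_comm u (fun hu' => hu ((hc u).mp hu')) v w (e.injective hv) (e.injective hw)]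
  · obtain ⟨x, rfl⟩ := e.surjective y
    rw [← h.card_cent x fun hx => hy ((hc x).mp hx)]
    refine Nat.card_congr (e.toEquiv.subtypeEquiv fun w => ?_).symm
    simp only [mem_centralizer_singleton_iff, MulEquiv.toEquiv_eq_coe, EquivLike.coe_coe]
    rw [← map_mul, ← map_mul, e.injective.eq_iff]
  · intro θ a ha ha1 hθ z hz
    obtain ⟨a, rfl⟩ := e.surjective a
    obtain ⟨z, rfl⟩ := e.surjective z
    rw [← hpow, h.gal_pow _ a ((hc a).mpr ha) (fun h0 => ha1 (by rw [h0, map_one])) (hfix θ a hθ) z ((hc z).mpr hz)]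
  · intro a ha ha1 z hz
    obtain ⟨a, rfl⟩ := e.surjective a
    obtain ⟨z, rfl⟩ := e.surjective z
    refine le_trans ?_ (h.gal_orbit a ((hc a).mpr ha) (fun h0 => ha1 (by rw [h0, map_one])) z ((hc z).mpr hz))
    refine Set.ncard_le_ncard_of_injOn e.symm (fun w hw => ?_) e.symm.injective.injOn (Set.toFinite _)
    obtain ⟨θ, hθ, hw⟩ := hw
    exact ⟨pull θ, hfix θ a hθ, e.injective (by rw [hpull, hw, e.apply_symm_apply])⟩
  · rintro θ a ha ha1 hθ ⟨z, hz, hzm⟩
    obtain ⟨a, rfl⟩ := e.surjective a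
    obtain ⟨z, rfl⟩ := e.surjective z
    refine le_of_eq_of_le ?_ (h.gal_fix (pull θ) a ((hc a).mpr ha) (fun h0 => ha1 (by rw [h0, map_one]))
      (hfix θ a hθ) ⟨z, (hc z).mpr hz, fun h0 => hzm (by rw [← hpull, h0])⟩)
    refine congrArg (· ^ 2) (Nat.card_congr (e.toEquiv.subtypeEquiv fun x => ?_).symm)
    exact and_congr (hc x) ⟨fun h0 => ((hpull θ x).symm.trans (congrArg e h0)),
      fun h0 => hfix θ x h0⟩

variable {G : Type u} [Group G] [Finite G]

/-- The centre of `S`, as a subgroup of `G`. -/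
def zee (S : Sylow 2 G) : Subgroup G := (center (S : Subgroup G)).map (S : Subgroup G).subtype

variable {S : Sylow 2 G} {n : ℕ}

theorem mem_zee {x : G} :
    x ∈ zee S ↔ ∃ hx : x ∈ (S : Subgroup G), (⟨x, hx⟩ : (S : Subgroup G)) ∈ center (S : Subgroup G) := by
  constructor
  · rintro ⟨y, hy, rfl⟩
    exact ⟨y.2, hy⟩
  · rintro ⟨hx, h⟩
    exact ⟨_, h, rfl⟩

theorem zee_le (S : Sylow 2 G) : zee S ≤ (S : Subgroup G) := map_subtype_le _

theorem center_iff_zee (x : (S : Subgroup G)) : x ∈ center (S : Subgroup G) ↔ (x : G) ∈ zee S :=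
  ⟨fun hx => ⟨x, hx, rfl⟩, fun hx => (mem_zee.mp hx).2⟩

theorem zee_comm {x s : G} (hx : x ∈ zee S) (hs : s ∈ (S : Subgroup G)) : x * s = s * x := by
  obtain ⟨hx', hc⟩ := mem_zee.mp hx
  exact (congrArg Subtype.val (mem_center_iff.mp hc ⟨s, hs⟩)).symm

theorem sylow_le_cent (S : Sylow 2 G) : (S : Subgroup G) ≤ centralizer (zee S : Set G) :=
  fun _ hs => mem_centralizer_iff.mpr fun _ hx => zee_comm hx hs

theorem sylow_le_cent_single {b : G} (hb : b ∈ zee S) : (S : Subgroup G) ≤ centralizer ({b} : Set G) :=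
  fun _ hs => mem_cent_of_commute (zee_comm hb hs).symm

theorem zee_sq (h : U3 (S : Subgroup G) n) {x : G} (hx : x ∈ zee S) : x * x = 1 := by
  obtain ⟨hx', hc⟩ := mem_zee.mp hx
  exact congrArg Subtype.val (h.cen _ hc)

theorem mem_zee_of_sq (h : U3 (S : Subgroup G) n) {x : G} (hx : x ∈ (S : Subgroup G)) (h2 : x * x = 1) :
    x ∈ zee S :=
  mem_zee.mpr ⟨hx, h.inv _ (Subtype.ext h2)⟩

theorem zee_elementary (h : U3 (S : Subgroup G) n) : IsElementaryAbelian 2 (zee S) :=
  CfsgLib.SolvSF.ea_of_comm (fun _ ha _ hb => zee_comm ha (zee_le S hb)) fun a ha => by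
    rw [pow_two]; exact zee_sq h ha

theorem card_zee (h : U3 (S : Subgroup G) n) : Nat.card (zee S) = 2 ^ n := by
  rw [zee, card_map_of_injective (S : Subgroup G).subtype_injective, h.card_center]

theorem sq_mem (h : U3 (S : Subgroup G) n) {s : G} (hs : s ∈ (S : Subgroup G)) : s * s ∈ zee S :=
  (center_iff_zee (⟨s, hs⟩ * ⟨s, hs⟩)).mp (h.sq _)

theorem comm_mem (h : U3 (S : Subgroup G) n) {s t : G} (hs : s ∈ (S : Subgroup G)) (ht : t ∈ (S : Subgroup G)) :
    ⁅s, t⁆ ∈ zee S :=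
  (center_iff_zee ⁅(⟨s, hs⟩ : (S : Subgroup G)), ⟨t, ht⟩⁆).mp (h.cc _ _)

theorem exists_root_zee (h : U3 (S : Subgroup G) n) {z : G} (hz : z ∈ zee S) :
    ∃ y ∈ (S : Subgroup G), y * y = z := by
  obtain ⟨hz', hc⟩ := mem_zee.mp hz
  obtain ⟨y, hy⟩ := h.root _ hc
  exact ⟨y, y.2, congrArg Subtype.val hy⟩

theorem centInv (h : U3 (S : Subgroup G) n) {x : G} (hx : x ∈ zee S) (h1 : x ≠ 1) : IsCentInv S x :=
  ⟨zee_le S hx, ⟨h1, zee_sq h hx⟩, fun _ hs => zee_comm hx hs⟩

/-- An element of the centre outside a small set. -/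
theorem exists_zee_notMem (h : U3 (S : Subgroup G) n) (s : Set G) (hs : s.ncard < 2 ^ n) :
    ∃ z ∈ zee S, z ∉ s := by
  by_contra hc
  push Not at hc
  have := Set.ncard_le_ncard (show (zee S : Set G) ⊆ s from hc) (Set.toFinite _)
  rw [← Nat.card_coe_set_eq, SetLike.coe_sort_coe, card_zee h] at this
  omega

theorem exists_invol (h : U3 (S : Subgroup G) n) (hn : 1 ≤ n) : ∃ z ∈ zee S, z ≠ 1 := by
  refine exists_zee_notMem h {1} ?_
  rw [Set.ncard_singleton]
  exact Nat.one_lt_two_pow (by omega)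

theorem exists_noncentral (h : U3 (S : Subgroup G) n) (hn : 1 ≤ n) : ∃ u ∈ (S : Subgroup G), u ∉ zee S := by
  obtain ⟨z, hz, hz1⟩ := exists_invol h hn
  obtain ⟨y, hy, hyz⟩ := exists_root_zee h hz
  exact ⟨y, hy, fun hyZ => hz1 (hyz ▸ zee_sq h hyZ)⟩

theorem sylow_normalizer_le (h : U3 (S : Subgroup G) n) :
    normalizer ((S : Subgroup G) : Set G) ≤ normalizer (zee S : Set G) := fun g hg =>
  CfsgLib.Comp.mem_normalizer_of_maps fun x hx => mem_zee_of_sq h ((mem_normalizer_iff.mp hg x).mp (zee_le S hx))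
    (by rw [show g * x * g⁻¹ * (g * x * g⁻¹) = g * (x * x) * g⁻¹ by group, zee_sq h hx]; group)

/-- Every involution is conjugate into the centre. -/
theorem exists_conj_zee (h : U3 (S : Subgroup G) n) {t : G} (ht : IsInvol t) : ∃ m : G, m * t * m⁻¹ ∈ zee S := by
  obtain ⟨m, hm⟩ := exists_conj_into_sylow S (P := zpowers t)
    (IsPGroup.of_card (n := 1) (by rw [Nat.card_zpowers, ht.orderOf_eq, pow_one]))
  exact ⟨m, mem_zee_of_sq h (hm t (mem_zpowers t)) (ht.conj m).2⟩

/-- The normalizer controls fusion in the centre. -/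
theorem exists_fusion (h : U3 (S : Subgroup G) n) {g a : G} (ha : a ∈ zee S) (ha1 : a ≠ 1)
    (hg : g * a * g⁻¹ ∈ (S : Subgroup G)) :
    ∃ c ∈ centralizer ({g * a * g⁻¹} : Set G), c * g ∈ normalizer ((S : Subgroup G) : Set G) := by
  have hai : IsInvol (g * a * g⁻¹) := IsInvol.conj ⟨ha1, zee_sq h ha⟩ g
  exact exists_cent_mul_normalizer S (centInv h ha ha1) (centInv h (mem_zee_of_sq h hg hai.2) hai.1) rfl

/-- An element of odd order in the normalizer centralising the centre and a coset outside it centralises `S`. -/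
theorem cent_of_fix_coset (h : U3 (S : Subgroup G) n) {g u : G} (hgS : g ∈ normalizer ((S : Subgroup G) : Set G))
    (hgC : g ∈ centralizer (zee S : Set G)) (hodd : Odd (orderOf g)) (huS : u ∈ (S : Subgroup G))
    (huV : u ∉ zee S) (hu : g * u * g⁻¹ * u⁻¹ ∈ zee S) : g ∈ centralizer ((S : Subgroup G) : Set G) := by
  set V := zee S
  have hfixV : ∀ v ∈ V, g * v * g⁻¹ = v := fun v hv => by
    rw [← mem_centralizer_iff.mp hgC v hv, mul_inv_cancel_right]
  have hconj : ∀ s ∈ (S : Subgroup G), g * s * g⁻¹ ∈ (S : Subgroup G) := fun s hs' =>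
    (mem_normalizer_iff.mp hgS s).mp hs'
  have hTwo : ∀ s ∈ (S : Subgroup G), IsTwoEl s := fun s hs' => isTwoEl_of_mem S.2 hs'
  have step : ∀ w ∈ (S : Subgroup G), g * w * g⁻¹ * w⁻¹ ∈ V → g * w * g⁻¹ = w := fun w hw hd => by
    have h1 := fix_trick (w := w) (d := g * w * g⁻¹ * w⁻¹) hodd (hTwo _ (zee_le S hd)) (hfixV _ hd) (by group)
    exact mul_inv_eq_one.mp h1
  have hgu := step u huS hu
  set u' : (S : Subgroup G) := ⟨u, huS⟩
  have hu' : u' ∉ center (S : Subgroup G) := fun e => huV ((center_iff_zee u').mp e)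
  have hT : ∀ w ∈ (S : Subgroup G), w * u = u * w → g * w * g⁻¹ = w := by
    intro w hw hwu
    refine step w hw (mem_zee_of_sq h (mul_mem (hconj w hw) (inv_mem hw)) ?_)
    have hw1 : (⟨w, hw⟩ : (S : Subgroup G)) * u' = u' * ⟨w, hw⟩ := Subtype.ext hwu
    have hw2 : (⟨g * w * g⁻¹, hconj w hw⟩ : (S : Subgroup G)) * u' = u' * ⟨g * w * g⁻¹, hconj w hw⟩ := by
      refine Subtype.ext ?_
      show g * w * g⁻¹ * u = u * (g * w * g⁻¹)
      have := conj_commute g hwu
      rwa [hgu] at this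
    have hcm : g * w * g⁻¹ * w⁻¹ = w⁻¹ * (g * w * g⁻¹) :=
      congrArg Subtype.val (h.cent_comm u' hu' _ _ hw2 (Commute.inv_left hw1).eq)
    calc g * w * g⁻¹ * w⁻¹ * (g * w * g⁻¹ * w⁻¹) = g * w * g⁻¹ * (w⁻¹ * (g * w * g⁻¹)) * w⁻¹ := by group
      _ = g * w * g⁻¹ * (g * w * g⁻¹ * w⁻¹) * w⁻¹ := by rw [hcm]
      _ = g * (w * w) * g⁻¹ * (w * w)⁻¹ := by group
      _ = 1 := by rw [hfixV _ (sq_mem h hw), mul_inv_cancel]
  refine mem_centralizer_iff.mpr fun s hs' => ?_
  set d := g * s * g⁻¹ * s⁻¹ with hd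
  have hdS : d ∈ (S : Subgroup G) := mul_mem (hconj s hs') (inv_mem hs')
  have hdu : d * u = u * d := by
    have hc : u * s * u⁻¹ * s⁻¹ ∈ V := comm_mem h huS hs'
    set z := u * s * u⁻¹ * s⁻¹ with hz
    set q := g * s * g⁻¹ with hq
    have e1 : u * q * u⁻¹ = z * q := by
      calc u * q * u⁻¹ = g * u * g⁻¹ * q * (g * u * g⁻¹)⁻¹ := by rw [hgu]
        _ = g * (z * s) * g⁻¹ := by rw [hz, hq]; group
        _ = g * z * g⁻¹ * q := by rw [hq]; group
        _ = z * q := by rw [hfixV z hc]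
    have hzq : z * q = q * z := zee_comm hc (hconj s hs')
    have e2 : u * d * u⁻¹ = d := by
      calc u * d * u⁻¹ = u * q * u⁻¹ * (u * s * u⁻¹)⁻¹ := by rw [hd]; group
        _ = z * q * (z * s)⁻¹ := by rw [e1, show u * s * u⁻¹ = z * s by rw [hz]; group]
        _ = q * z * (z * s)⁻¹ := by rw [hzq]
        _ = q * (z * s⁻¹) * z⁻¹ := by group
        _ = q * (s⁻¹ * z) * z⁻¹ := by rw [zee_comm hc (inv_mem hs')]
        _ = d := by rw [hd]; group
    exact (mul_inv_eq_iff_eq_mul.mp e2).symm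
  have h1 := fix_trick (w := s) hodd (hTwo d hdS) (hT d hdS hdu) (by rw [hd]; group)
  exact (mul_inv_eq_iff_eq_mul.mp (mul_inv_eq_one.mp h1)).symm

/-- Conjugation by an element of the normalizer, as an automorphism of `S`. -/
def act (S : Sylow 2 G) (g : normalizer ((S : Subgroup G) : Set G)) : MulAut (S : Subgroup G) :=
  Subgroup.normalizerMonoidHom (S : Subgroup G) g

@[simp] theorem coe_act (g : normalizer ((S : Subgroup G) : Set G)) (s : (S : Subgroup G)) :
    (act S g s : G) = (g : G) * s * (g : G)⁻¹ := rfl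

/-- The conjugates of a central element under the normalizer, when some non-trivial central element is fixed. -/
theorem orbit_le (h : U3 (S : Subgroup G) n) {a z : G} (ha : a ∈ zee S) (ha1 : a ≠ 1) (hac : a ∈ center G)
    (hz : z ∈ zee S) :
    Set.ncard {w : G | ∃ g ∈ normalizer ((S : Subgroup G) : Set G), g * z * g⁻¹ = w} ≤ n := by
  obtain ⟨haS, hac'⟩ := mem_zee.mp ha
  obtain ⟨hzS, hzc⟩ := mem_zee.mp hz
  refine le_trans ?_ (h.gal_orbit _ hac' (fun e => ha1 (congrArg Subtype.val e)) _ hzc)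
  refine le_trans ?_ (Set.ncard_image_of_injective _ (S : Subgroup G).subtype_injective).le
  refine Set.ncard_le_ncard ?_ (Set.toFinite _)
  rintro w ⟨g, hg, rfl⟩
  refine ⟨act S ⟨g, hg⟩ ⟨z, hzS⟩, ⟨act S ⟨g, hg⟩, Subtype.ext ?_, rfl⟩, rfl⟩
  rw [coe_act]
  show g * a * g⁻¹ = a
  rw [mem_center_iff.mp hac g, mul_inv_cancel_right]

/-- The power `n` of such an element centralises the centre. -/
theorem pow_fix (h : U3 (S : Subgroup G) n) {a g : G} (ha : a ∈ zee S) (ha1 : a ≠ 1) (hac : a ∈ center G)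
    (hg : g ∈ normalizer ((S : Subgroup G) : Set G)) : g ^ n ∈ centralizer (zee S : Set G) := by
  obtain ⟨haS, hac'⟩ := mem_zee.mp ha
  refine mem_centralizer_iff.mpr fun z hz => ?_
  obtain ⟨hzS, hzc⟩ := mem_zee.mp hz
  have h1 := h.gal_pow (act S ⟨g, hg⟩) _ hac' (fun e => ha1 (congrArg Subtype.val e)) (Subtype.ext (by
    rw [coe_act]
    show g * a * g⁻¹ = a
    rw [mem_center_iff.mp hac g, mul_inv_cancel_right])) _ hzc
  rw [act, ← map_pow] at h1
  have h2 : g ^ n * z * (g ^ n)⁻¹ = z := congrArg Subtype.val h1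
  exact (mul_inv_eq_iff_eq_mul.mp h2).symm

/-- The fixed points of such an element form a small subgroup, unless it centralises the centre. -/
theorem card_fix_le (h : U3 (S : Subgroup G) n) {a g : G} (ha : a ∈ zee S) (ha1 : a ≠ 1) (hac : a ∈ center G)
    (hg : g ∈ normalizer ((S : Subgroup G) : Set G)) (hmv : g ∉ centralizer (zee S : Set G)) :
    Nat.card (zee S ⊓ center G : Subgroup G) ^ 2 ≤ 2 ^ n := by
  obtain ⟨haS, hac'⟩ := mem_zee.mp ha
  refine le_trans (Nat.pow_le_pow_left ?_ 2) (h.gal_fix (act S ⟨g, hg⟩) _ hac'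
    (fun e => ha1 (congrArg Subtype.val e)) (Subtype.ext (by
      rw [coe_act]
      show g * a * g⁻¹ = a
      rw [mem_center_iff.mp hac g, mul_inv_cancel_right])) ?_)
  · refine Nat.card_le_card_of_injective (fun z => ⟨⟨z.1, zee_le S z.2.1⟩, (mem_zee.mp z.2.1).2,
      Subtype.ext ?_⟩) fun z₁ z₂ e => Subtype.ext (congrArg (fun t => ((t.1 : (S : Subgroup G)) : G)) e)
    rw [coe_act]
    show g * z.1 * g⁻¹ = z.1
    rw [mem_center_iff.mp z.2.2 g, mul_inv_cancel_right]
  · by_contra hc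
    push Not at hc
    refine hmv (mem_centralizer_iff.mpr fun z hz => ?_)
    obtain ⟨hzS, hzc⟩ := mem_zee.mp hz
    have h2 : g * z * g⁻¹ = z := congrArg Subtype.val (hc ⟨z, hzS⟩ hzc)
    exact (mul_inv_eq_iff_eq_mul.mp h2).symm

end CfsgLib.U3Type
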