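import Cfsg.Agent.Lib.U3Type.Basic
import Cfsg.Agent.Lib.U34Char.ESixteen
import Cfsg.Agent.Lib.PSolvable

/-!
The case of a central centre: `G` is a `2`-group.
-/

set_option autoImplicit false
set_option linter.unusedSectionVars false
set_option linter.style.haveILetI false

namespace CfsgLib.U3Type

open Subgroup Cfsg CfsgLib.HallE8 CfsgLib.ZCReduction CfsgLib.PiClosedTwo CfsgLib.U34Char

universe u

variable {G : Type u} [Group G] [Finite G] {S : Sylow 2 G} {n : ℕ}

/-- If the centre of `S` is central, `G` is a `2`-group. -/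
theorem eq_top_of_central (h : U3 (S : Subgroup G) n) (hn : 2 ≤ n) (hO : oddCore G = ⊥)
    (hodd : ∀ N : Subgroup G, N.Normal → Odd N.index → N = ⊤) (hV : zee S ≤ center G) :
    (S : Subgroup G) = ⊤ := by
  classical
  haveI : Fact (Nat.Prime 2) := ⟨Nat.prime_two⟩
  set V := zee S with hVdef
  haveI hVn : V.Normal := ⟨fun x hx g => by rwa [mem_center_iff.mp (hV hx) g, mul_inv_cancel_right]⟩
  set π := QuotientGroup.mk' V
  have hk : ∀ x : G, π x = 1 ↔ x ∈ V := fun x => QuotientGroup.eq_one_iff x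
  set A := S.mapSurjective (f := π) (QuotientGroup.mk'_surjective V)
  have hA : ∀ x : G, π x ∈ (A : Subgroup (G ⧸ V)) ↔ x ∈ (S : Subgroup G) := fun x => by
    refine ⟨?_, fun hx => mem_map_of_mem π hx⟩
    rintro ⟨s, hs, e⟩
    have h2 : s⁻¹ * x ∈ V := (hk _).mp (by rw [map_mul, map_inv, e, inv_mul_cancel])
    have := mul_mem hs ((zee_le S) h2)
    rwa [mul_inv_cancel_left] at this
  have hlift : ∀ q ∈ normalizer ((A : Subgroup (G ⧸ V)) : Set (G ⧸ V)),
      ∃ m ∈ normalizer ((S : Subgroup G) : Set G), π m = q := by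
    intro q hq
    obtain ⟨m, rfl⟩ := QuotientGroup.mk'_surjective V q
    refine ⟨m, mem_normalizer_iff.mpr fun x => ?_, rfl⟩
    rw [← hA x, ← hA (m * x * m⁻¹), map_mul, map_mul, map_inv]
    exact mem_normalizer_iff.mp hq (π x)
  have hsq : ∀ a ∈ (A : Subgroup (G ⧸ V)), a * a = 1 := by
    rintro _ ⟨s, hs, rfl⟩
    rw [← map_mul]
    exact (hk _).mpr (sq_mem h hs)
  have h8 : 8 ≤ Nat.card (A : Subgroup (G ⧸ V)) := by
    have e1 : V.relIndex (S : Subgroup G) = Nat.card (A : Subgroup (G ⧸ V)) := by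
      have := Subgroup.relIndex_ker (f := π) (K := (S : Subgroup G))
      rwa [QuotientGroup.ker_mk'] at this
    have e2 := Subgroup.relIndex_mul_relIndex ⊥ V (S : Subgroup G) bot_le (zee_le S)
    rw [Subgroup.relIndex_bot_left, Subgroup.relIndex_bot_left, card_zee h, h.card, e1,
      show 3 * n = n + 2 * n by ring, pow_add] at e2
    rw [Nat.eq_of_mul_eq_mul_left (by positivity) e2]
    calc 8 = 2 ^ 3 := rfl
      _ ≤ 2 ^ (2 * n) := Nat.pow_le_pow_right two_pos (by omega)
  have hfix : ∀ n ∈ normalizer ((A : Subgroup (G ⧸ V)) : Set (G ⧸ V)), ∀ a ∈ (A : Subgroup (G ⧸ V)), a ≠ 1 →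
      n * a = a * n → n ∈ centralizer ((A : Subgroup (G ⧸ V)) : Set (G ⧸ V)) := by
    intro q hq a ha ha1 hqa
    obtain ⟨m, hm, rfl⟩ := hlift q hq
    obtain ⟨x, hx, rfl⟩ := ha
    obtain ⟨u, hu, w, hw, hu2, hwo, e⟩ := exists_parts m
    have hle : zpowers m ≤ normalizer ((S : Subgroup G) : Set G) := zpowers_le.mpr hm
    have huS := mem_of_twoEl_normalizer S hu2 (hle hu)
    have hwx : π w * π x = π x * π w := by
      obtain ⟨j, rfl⟩ := mem_zpowers_iff.mp hw
      rw [map_zpow]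
      exact (Commute.zpow_left hqa j).eq
    have hwV : w * x * w⁻¹ * x⁻¹ ∈ V := (hk _).mp (by
      rw [map_mul, map_mul, map_mul, map_inv, map_inv, hwx, mul_inv_cancel_right, mul_inv_cancel])
    have hwC : w ∈ centralizer (V : Set G) :=
      mem_centralizer_iff.mpr fun v hv => (mem_center_iff.mp (hV hv) w).symm
    have hwS := cent_of_fix_coset h (hle hw) hwC hwo hx (fun hxV => ha1 ((hk x).mpr hxV)) hwV
    refine mem_centralizer_iff.mpr ?_
    rintro _ ⟨s, hs, rfl⟩
    rw [e, map_mul]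
    have h1 : π s * π u = π u * π s := by
      rw [← inv_eq_of_mul_eq_one_right (hsq _ (mul_mem (mem_map_of_mem π hs) (mem_map_of_mem π huS))),
        mul_inv_rev, inv_eq_of_mul_eq_one_right (hsq _ (mem_map_of_mem π hs)),
        inv_eq_of_mul_eq_one_right (hsq _ (mem_map_of_mem π huS))]
    have h2 : π s * π w = π w * π s := by rw [← map_mul, ← map_mul, mem_centralizer_iff.mp hwS s hs]
    exact (Commute.mul_right h1 h2).eq
  have horb : ∃ a ∈ (A : Subgroup (G ⧸ V)), a ≠ 1 ∧ ∃ b ∈ (A : Subgroup (G ⧸ V)), b ≠ 1 ∧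
      ∀ n ∈ normalizer ((A : Subgroup (G ⧸ V)) : Set (G ⧸ V)), n * a * n⁻¹ ≠ b := by
    obtain ⟨u, hu, huV⟩ := exists_noncentral h (by omega)
    have hz1 := sq_mem h hu
    obtain ⟨z₂, hz₂, hz₂'⟩ := exists_zee_notMem h {1, u * u} (by
      refine lt_of_le_of_lt (Set.ncard_insert_le _ _) ?_
      rw [Set.ncard_singleton]
      calc 1 + 1 < 2 ^ 2 := by norm_num
        _ ≤ 2 ^ n := Nat.pow_le_pow_right two_pos hn)
    simp only [Set.mem_insert_iff, Set.mem_singleton_iff, not_or] at hz₂'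
    obtain ⟨hz₂1, hz₂2⟩ := hz₂'
    obtain ⟨y, hyS, hy'⟩ := exists_root_zee h hz₂
    refine ⟨π u, mem_map_of_mem π hu, fun e => huV ((hk u).mp e), π y, mem_map_of_mem π hyS, fun e => ?_, ?_⟩
    · exact hz₂1 (hy' ▸ zee_sq h ((hk _).mp e))
    intro q hq e
    obtain ⟨m, rfl⟩ := QuotientGroup.mk'_surjective V q
    set d := m * u * m⁻¹ * y⁻¹ with hd
    have hdV : d ∈ V := (hk _).mp (by rw [hd, map_mul, map_mul, map_mul, map_inv, map_inv, e, mul_inv_cancel])
    refine hz₂2 ?_
    calc z₂ = d * d * (y * y) := by rw [zee_sq h hdV, one_mul, hy']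
      _ = d * y * (d * y) := by
        rw [show d * d * (y * y) = d * (d * y) * y by group, zee_comm hdV hyS,
          show d * (y * d) * y = d * y * (d * y) by group]
        rw [zee_comm hdV hyS]
      _ = m * (u * u) * m⁻¹ := by rw [hd]; group
      _ = u * u := by rw [mem_center_iff.mp (hV hz1) m, mul_inv_cancel_right]
  have hO : pPrimeCore 2 (G ⧸ V) = ⊥ := by
    rw [eq_bot_iff_forall]
    intro q hq
    obtain ⟨x, rfl⟩ := QuotientGroup.mk'_surjective V q
    set K : Subgroup G := (pPrimeCore 2 (G ⧸ V)).comap π with hK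
    haveI : K.Normal := by rw [hK]; infer_instance
    have hodd : Odd (Nat.card (pPrimeCore 2 (G ⧸ V))) :=
      Nat.coprime_two_right.mp (CfsgLib.card_pPrimeCore_coprime 2)
    obtain ⟨P⟩ : Nonempty (Sylow 2 K) := inferInstance
    have hPV : ∀ p ∈ (P : Subgroup K), (p : G) ∈ V := fun p hp => by
      refine (hk _).mp (orderOf_eq_one_iff.mp ?_)
      obtain ⟨i, hi⟩ := isTwoEl_of_mem (P.2.map K.subtype) (mem_map_of_mem K.subtype hp)
      have hd1 : orderOf (π p) ∣ 2 ^ i := hi ▸ orderOf_map_dvd π (p : G)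
      have hd2 : orderOf (π p) ∣ Nat.card (pPrimeCore 2 (G ⧸ V)) := Subgroup.orderOf_dvd_natCard _ p.2
      exact Nat.eq_one_of_dvd_coprimes ((Nat.coprime_two_left.mpr hodd).pow_left i) hd1 hd2
    have hN : HasNormalPComplement 2 K :=
      CfsgLib.hasNormalPComplement_of_normalizer_le_centralizer P fun n _ =>
        mem_centralizer_iff.mpr fun p hp => Subtype.ext (mem_center_iff.mp (hV (hPV p hp)) n).symm
    obtain ⟨o, ho, s, hs, e⟩ := exists_core_mul hN P ⟨x, hq⟩
    have ho1 : (o : G) = 1 := mem_bot.mp (hO ▸ CfsgLib.map_pPrimeCore_le 2 K (mem_map_of_mem K.subtype ho))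
    have ex : x = (o : G) * (s : G) := congrArg Subtype.val e
    rw [ex, ho1, one_mul]
    exact (hk _).mpr (hPV s hs)
  have hall : ∀ g : G, g ∈ normalizer ((S : Subgroup G) : Set G) := by
    intro g
    obtain ⟨o, ho, n, hn, e⟩ := split_of_semiregular A hsq h8 hfix horb (π g)
    rw [hO, mem_bot] at ho
    obtain ⟨m, hm, rfl⟩ := hlift n hn
    rw [ho, one_mul] at e
    have h1 : m⁻¹ * g ∈ V := (hk _).mp (by rw [map_mul, map_inv, e, inv_mul_cancel])
    have := mul_mem hm (le_normalizer ((zee_le S) h1))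
    rwa [mul_inv_cancel_left] at this
  haveI : (S : Subgroup G).Normal := normalizer_eq_top_iff.mp (eq_top_iff.mpr fun g _ => hall g)
  exact hodd _ inferInstance (Nat.not_even_iff_odd.mp fun he => S.not_dvd_index (even_iff_two_dvd.mp he))

end CfsgLib.U3Type
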