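import Cfsg.Agent.Lib.U3Type.Basic
import Cfsg.Agent.Lib.PiClosedTwo.Embedded

/-!
An involution outside a subgroup containing the non-central centralizers is conjugate into a central translate.
-/

set_option autoImplicit false
set_option linter.unusedSectionVars false

namespace CfsgLib.U3Type

open Subgroup Cfsg CfsgLib.HallE8 CfsgLib.ZCReduction CfsgLib.PiClosedTwo

universe u

variable {G : Type u} [Group G] [Finite G] {S : Sylow 2 G} {n : ℕ}

/-- No element of order four is inverted by an involution. -/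
theorem sq_eq_one_of_inverted (h : U3 (S : Subgroup G) n) {b y : G} (hb : IsInvol b) (hy : y ^ 4 = 1)
    (hby : b * y * b⁻¹ = y⁻¹) : y * y = 1 := by
  haveI : Fact (Nat.Prime 2) := ⟨Nat.prime_two⟩
  have h1 : IsPGroup 2 (zpowers y) :=
    IsPGroup.of_card_dvd_pow (n := 2) (by rw [Nat.card_zpowers]; exact orderOf_dvd_of_pow_eq_one hy)
  have h2 : IsPGroup 2 (zpowers b) :=
    IsPGroup.of_card (n := 1) (by rw [Nat.card_zpowers, hb.orderOf_eq, pow_one])
  have hbn : zpowers b ≤ normalizer (zpowers y : Set G) := zpowers_le.mpr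
    (CfsgLib.Comp.mem_normalizer_of_maps fun x hx => by
      obtain ⟨i, rfl⟩ := mem_zpowers_iff.mp hx
      exact mem_zpowers_iff.mpr ⟨-i, by rw [← conj_zpow, hby, inv_zpow, zpow_neg]⟩)
  obtain ⟨m, hm⟩ := exists_conj_into_sylow S (h2.to_sup_of_normal_right' h1 hbn)
  have hbZ := mem_zee_of_sq h (hm b (mem_sup_left (mem_zpowers b))) (hb.conj m).2
  have e := zee_comm hbZ (hm y (mem_sup_right (mem_zpowers y)))
  have e' : b * y = y * b := by
    calc b * y = m⁻¹ * ((m * b * m⁻¹) * (m * y * m⁻¹)) * m := by group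
      _ = m⁻¹ * ((m * y * m⁻¹) * (m * b * m⁻¹)) * m := by rw [e]
      _ = y * b := by group
  rw [e', mul_inv_cancel_right] at hby
  exact mul_eq_one_iff_eq_inv.mpr hby

/-- The dihedral argument. -/
theorem isConj_translate (h : U3 (S : Subgroup G) n) {M : Subgroup G}
    (hc : ∀ w ∈ M, IsInvol w → w ∉ center G → centralizer ({w} : Set G) ≤ M) {s u : G} (hs : IsInvol s)
    (hsM : s ∈ M) (hsc : s ∉ center G) (hu : IsInvol u) (huM : u ∉ M) :
    ∃ z ∈ center G, z * z = 1 ∧ IsConj s (u * z) := by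
  by_cases ho : Odd (orderOf (u * s))
  · obtain ⟨d, -, hd⟩ := CfsgLib.OddCentTransitive.conj_of_odd hs.2 hu.2 ho
    exact ⟨1, one_mem _, one_mul _, by rw [mul_one]; exact isConj_iff.mpr ⟨d, hd⟩⟩
  obtain ⟨j, hj⟩ := Nat.not_odd_iff_even.mp ho
  have hpos := orderOf_pos (u * s)
  set w := (u * s) ^ j with hw
  have hw1 : w ≠ 1 := fun e => by
    have := Nat.le_of_dvd (by omega) (orderOf_dvd_of_pow_eq_one e)
    omega
  have hw2 : w * w = 1 := by rw [hw, ← pow_add, ← hj, pow_orderOf_eq_one]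
  have e1 : s * (u * s) * s⁻¹ = (u * s)⁻¹ := by
    rw [mul_inv_rev, hs.inv_eq, hu.inv_eq, mul_assoc, mul_assoc, hs.2, mul_one]
  have e2 : u * (u * s) * u⁻¹ = (u * s)⁻¹ := by
    rw [mul_inv_rev, hs.inv_eq, hu.inv_eq, ← mul_assoc, hu.2, one_mul]
  have hwi : w⁻¹ = w := inv_eq_of_mul_eq_one_left hw2
  have hsw : s * w = w * s := by
    have : s * w * s⁻¹ = w := by rw [hw, ← conj_pow, e1, inv_pow, ← hw, hwi]
    exact mul_inv_eq_iff_eq_mul.mp this
  have huw : u * w = w * u := by
    have : u * w * u⁻¹ = w := by rw [hw, ← conj_pow, e2, inv_pow, ← hw, hwi]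
    exact mul_inv_eq_iff_eq_mul.mp this
  have hwM : w ∈ M := hc s hsM hs hsc (mem_cent_of_commute hsw.symm)
  have hwc : w ∈ center G := by
    by_contra hwc
    exact huM (hc w hwM ⟨hw1, hw2⟩ hwc (mem_cent_of_commute huw))
  have hjodd : Odd j := by
    rcases Nat.even_or_odd j with ⟨k, hk⟩ | hk
    · exfalso
      have h4 : ((u * s) ^ k) ^ 4 = 1 := by
        rw [← pow_mul, show k * 4 = j + j by omega, ← hj, pow_orderOf_eq_one]
      have := sq_eq_one_of_inverted h hs h4 (by rw [← conj_pow, e1, inv_pow])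
      rw [← pow_add, ← hk] at this
      exact hw1 this
    · exact hk
  have hui : IsInvol (u * w) := by
    refine ⟨fun e => huM ?_, by rw [show u * w * (u * w) = u * u * (w * w) by
      rw [mul_assoc, ← mul_assoc w, ← huw]; group, hu.2, hw2, one_mul]⟩
    rw [eq_inv_of_mul_eq_one_left e, hwi]
    exact hwM
  have hord : Odd (orderOf (u * w * s)) := by
    refine hjodd.of_dvd_nat (orderOf_dvd_of_pow_eq_one ?_)
    rw [show u * w * s = w * (u * s) by rw [huw, mul_assoc],
      (show Commute w (u * s) from (mem_center_iff.mp hwc (u * s)).symm).mul_pow, ← hw]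
    obtain ⟨i, rfl⟩ := hjodd
    rw [pow_succ, pow_mul, pow_two, hw2, one_pow, one_mul, hw2]
  obtain ⟨d, -, hd⟩ := CfsgLib.OddCentTransitive.conj_of_odd hs.2 hui.2 hord
  exact ⟨w, hwc, hw2, isConj_iff.mpr ⟨d, hd⟩⟩

end CfsgLib.U3Type
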