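import Cfsg.Agent.Lib.U34Char.ESixteen
import Cfsg.Agent.Lib.PSolvable
import Cfsg.Agent.S0205
import Cfsg.Agent.S0949

/-!
A group with a central element of order four and an abelian Sylow `2`-subgroup which is `ℤ₄ × ℤ₄` modulo it.
-/

set_option autoImplicit false
set_option linter.unusedSectionVars false
set_option linter.style.haveILetI false

namespace CfsgLib.U3Type

open Subgroup Cfsg CfsgLib.HallE8 CfsgLib.ZCReduction CfsgLib.PiClosedTwo CfsgLib.U34Char

universe u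

/-- An abelian group of order sixteen, exponent four, with at most four elements of order at most two. -/
theorem equiv_four_four {W : Type u} [Group W] [Finite W] (hc : ∀ x y : W, x * y = y * x)
    (h16 : Nat.card W = 16) (h4 : ∀ x : W, x ^ 4 = 1) (hk : Nat.card {x : W // x * x = 1} ≤ 4) :
    Nonempty (W ≃* Multiplicative (ZMod (2 ^ 2) × ZMod (2 ^ 2))) := by
  classical
  letI : CommGroup W := { (inferInstance : Group W) with mul_comm := hc }
  let sq : W →* W := powMonoidHom 2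
  have hker : Nat.card sq.ker ≤ 4 := by
    refine le_of_eq_of_le (Nat.card_congr (Equiv.subtypeEquivRight fun x => ?_)) hk
    show x ^ 2 = 1 ↔ x * x = 1
    rw [pow_two]
  have hcard := Subgroup.card_mul_index sq.ker
  rw [Subgroup.index_ker, h16] at hcard
  have hrk : Nat.card sq.range ≤ Nat.card sq.ker := card_le_of_le (by
    rintro _ ⟨x, rfl⟩
    show (x ^ 2) ^ 2 = 1
    rw [← pow_mul]
    exact h4 x)
  have hr4 : 4 ≤ Nat.card sq.range := by
    by_contra hlt
    push Not at hlt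
    have := Nat.mul_le_mul hker (Nat.le_of_lt_succ hlt)
    omega
  obtain ⟨t₁, ht₁⟩ : ∃ t : W, t ^ 2 ≠ 1 := by
    by_contra hno
    push Not at hno
    have h1 : sq.range = ⊥ := by
      rw [eq_bot_iff_forall]
      rintro _ ⟨x, rfl⟩
      exact hno x
    rw [h1, card_bot] at hr4
    omega
  obtain ⟨t₂, ht₂, ht₂'⟩ : ∃ t : W, t ^ 2 ≠ 1 ∧ t ^ 2 ≠ t₁ ^ 2 := by
    by_contra hno
    push Not at hno
    have hsub : (sq.range : Set W) ⊆ {1, t₁ ^ 2} := by
      rintro _ ⟨x, rfl⟩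
      by_cases h : x ^ 2 = 1
      · exact Or.inl h
      · exact Or.inr (hno x h)
    have h1 := (Set.ncard_le_ncard hsub (Set.toFinite _)).trans (Set.ncard_insert_le _ _)
    rw [Set.ncard_singleton, ← Nat.card_coe_set_eq, SetLike.coe_sort_coe] at h1
    omega
  let g : W → ZMod (2 ^ 2) →+ Additive W := fun t => ZMod.lift (2 ^ 2)
    ⟨zmultiplesHom (Additive W) (Additive.ofMul t), by
      show ((2 ^ 2 : ℕ) : ℤ) • Additive.ofMul t = 0
      rw [natCast_zsmul, ← ofMul_pow]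
      exact congrArg Additive.ofMul (h4 t)⟩
  have hg : ∀ t (i : ℕ), Additive.toMul (g t (i : ZMod (2 ^ 2))) = t ^ i := fun t i => by
    show Additive.toMul (g t ((i : ℤ) : ZMod (2 ^ 2))) = _
    rw [ZMod.lift_coe]
    show Additive.toMul ((i : ℤ) • Additive.ofMul t) = _
    rw [natCast_zsmul]
    rfl
  let ψ : Multiplicative (ZMod (2 ^ 2) × ZMod (2 ^ 2)) →* W :=
    AddMonoidHom.toMultiplicativeLeft ((g t₁).coprod (g t₂))
  have hψ : ∀ i j : ℕ, ψ (Multiplicative.ofAdd ((i : ZMod (2 ^ 2)), (j : ZMod (2 ^ 2)))) = t₁ ^ i * t₂ ^ j :=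
    fun i j => by
      show Additive.toMul (g t₁ (i : ZMod (2 ^ 2)) + g t₂ (j : ZMod (2 ^ 2))) = _
      rw [toMul_add, hg, hg]
  have hinj : Function.Injective ψ := by
    rw [← MonoidHom.ker_eq_bot_iff, eq_bot_iff_forall]
    intro p hp
    have hi := (p.toAdd.1).val_lt
    have hj := (p.toAdd.2).val_lt
    have e : t₁ ^ p.toAdd.1.val * t₂ ^ p.toAdd.2.val = 1 := by
      rw [← hψ, ZMod.natCast_zmod_val, ZMod.natCast_zmod_val]
      exact hp
    have h2 : (t₁ ^ 2) ^ p.toAdd.1.val * (t₂ ^ 2) ^ p.toAdd.2.val = 1 := by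
      rw [← pow_mul, ← pow_mul, mul_comm 2, mul_comm 2, pow_mul, pow_mul, ← mul_pow, e, one_pow]
    have hq : ∀ t : W, (t ^ 2) ^ 2 = 1 := fun t => by rw [← pow_mul]; exact h4 t
    have key : ∀ i j : ℕ, i < 4 → j < 4 → (t₁ ^ 2) ^ i * (t₂ ^ 2) ^ j = 1 → t₁ ^ i * t₂ ^ j = 1 →
        i = 0 ∧ j = 0 := by
      intro i j hi hj h2 h1
      have h3 : (t₁ ^ 2) ^ (i % 2) * (t₂ ^ 2) ^ (j % 2) = 1 := by
        rwa [← Nat.mod_add_div i 2, ← Nat.mod_add_div j 2, pow_add, pow_add, pow_mul, pow_mul, hq, hq, one_pow,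
          one_pow, mul_one, mul_one] at h2
      have hne : t₁ ^ 2 * t₂ ^ 2 ≠ 1 := fun e => ht₂' (by
        rw [eq_inv_of_mul_eq_one_right e, inv_eq_of_mul_eq_one_left (by rw [← pow_two]; exact hq t₁)])
      obtain ⟨hi2, hj2⟩ : i % 2 = 0 ∧ j % 2 = 0 := by
        rcases Nat.mod_two_eq_zero_or_one i with a | a <;> rcases Nat.mod_two_eq_zero_or_one j with b | b <;>
          simp only [a, b, pow_zero, pow_one, one_mul, mul_one] at h3
        · exact ⟨a, b⟩
        · exact absurd h3 ht₂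
        · exact absurd h3 ht₁
        · exact absurd h3 hne
      obtain ⟨k, rfl⟩ := Nat.dvd_of_mod_eq_zero hi2
      obtain ⟨l, rfl⟩ := Nat.dvd_of_mod_eq_zero hj2
      rw [pow_mul, pow_mul] at h1
      have hk : k < 2 := by omega
      have hl : l < 2 := by omega
      interval_cases k <;> interval_cases l <;> simp_all
    obtain ⟨a, b⟩ := key _ _ hi hj h2 e
    have a' := (ZMod.val_eq_zero _).mp a
    have b' := (ZMod.val_eq_zero _).mp b
    exact Multiplicative.toAdd.injective (Prod.ext a' b')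
  have hb : Function.Bijective ψ := (Nat.bijective_iff_injective_and_card _).mpr ⟨hinj, by
    rw [h16, Nat.card_congr Multiplicative.toAdd, Nat.card_prod, Nat.card_zmod]; rfl⟩
  exact ⟨(MulEquiv.ofBijective ψ hb).symm⟩

variable {Y : Type u} [Group Y] [Finite Y]

/-- The structure of the group. -/
theorem structure_of_homocyclic (P : Sylow 2 Y) (x : Y) (hxP : x ∈ (P : Subgroup Y)) (hxc : x ∈ center Y)
    (hcomm : ∀ s ∈ (P : Subgroup Y), ∀ t ∈ (P : Subgroup Y), s * t = t * s)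
    (hcard : Nat.card (P : Subgroup Y) = 16 * orderOf x) (h4 : ∀ t ∈ (P : Subgroup Y), t ^ 4 = 1)
    (hV : ∃ V : Subgroup Y, Nat.card V ≤ 8 ∧ (∃ z ∈ V, z ∈ zpowers x ∧ z ≠ 1) ∧
      ∀ t ∈ (P : Subgroup Y), t * t ∈ zpowers x → ∃ v ∈ V, t * v⁻¹ ∈ zpowers x) :
    Group.IsSolvable Y ∧ pPrimeCore 2 Y ⊔ normalizer ((P : Subgroup Y) : Set Y) = ⊤ := by
  classical
  haveI : Fact (Nat.Prime 2) := ⟨Nat.prime_two⟩
  set C := zpowers x with hCdef
  haveI hCn : C.Normal := ⟨fun z hz g => by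
    rwa [mem_center_iff.mp ((zpowers_le.mpr hxc : C ≤ center Y) hz) g, mul_inv_cancel_right]⟩
  have hCP : C ≤ (P : Subgroup Y) := zpowers_le.mpr hxP
  set π := QuotientGroup.mk' C with hπ
  have hk : ∀ y : Y, π y = 1 ↔ y ∈ C := fun y => QuotientGroup.eq_one_iff y
  set P1 := P.mapSurjective (f := π) (QuotientGroup.mk'_surjective C)
  have h16 : Nat.card (P1 : Subgroup (Y ⧸ C)) = 16 := by
    have e1 : C.relIndex (P : Subgroup Y) = Nat.card (P1 : Subgroup (Y ⧸ C)) := by
      have := Subgroup.relIndex_ker (f := π) (K := (P : Subgroup Y))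
      rwa [QuotientGroup.ker_mk'] at this
    have e2 := Subgroup.relIndex_mul_relIndex ⊥ C (P : Subgroup Y) bot_le hCP
    rw [Subgroup.relIndex_bot_left, Subgroup.relIndex_bot_left, Nat.card_zpowers, hcard, e1, mul_comm] at e2
    exact Nat.eq_of_mul_eq_mul_right (orderOf_pos x) e2
  have hkk : Nat.card {w : (P1 : Subgroup (Y ⧸ C)) // w * w = 1} ≤ 4 := by
    obtain ⟨V, hV8, ⟨z, hzV, hzC, hz1⟩, hV⟩ := hV
    have h1 : Nat.card (V.map π) ≤ 4 := by
      have e1 : C.relIndex V = Nat.card (V.map π) := by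
        have := Subgroup.relIndex_ker (f := π) (K := V)
        rwa [QuotientGroup.ker_mk'] at this
      have e2 := Subgroup.relIndex_mul_relIndex ⊥ (C ⊓ V) V bot_le inf_le_right
      rw [Subgroup.relIndex_bot_left, Subgroup.relIndex_bot_left, Subgroup.inf_relIndex_right, e1] at e2
      have h2 : 1 < Nat.card (C ⊓ V : Subgroup Y) :=
        (Subgroup.one_lt_card_iff_ne_bot _).mpr fun e => hz1 (mem_bot.mp (e ▸ (⟨hzC, hzV⟩ : z ∈ C ⊓ V)))
      have := Nat.mul_le_mul_right (Nat.card (V.map π)) h2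
      omega
    refine le_trans ?_ h1
    refine Nat.card_le_card_of_injective (fun w => (⟨(w.1 : Y ⧸ C), ?_⟩ : V.map π))
      fun w₁ w₂ e => Subtype.ext (Subtype.ext (congrArg (fun q : V.map π => (q : Y ⧸ C)) e))
    obtain ⟨t, ht, e⟩ := w.1.2
    have h2 : t * t ∈ C := (hk _).mp (by
      rw [map_mul, e]
      exact congrArg Subtype.val w.2)
    obtain ⟨v, hv, hvC⟩ := hV t ht h2
    refine ⟨v, hv, ?_⟩
    rw [← e]
    have := (hk _).mpr hvC
    rw [map_mul, map_inv] at this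
    exact (mul_inv_eq_one.mp this).symm
  have hc1 : ∀ a b : (P1 : Subgroup (Y ⧸ C)), a * b = b * a := by
    rintro ⟨_, s, hs, rfl⟩ ⟨_, t, ht, rfl⟩
    exact Subtype.ext (show π s * π t = π t * π s by rw [← map_mul, hcomm s hs t ht, map_mul])
  have h41 : ∀ a : (P1 : Subgroup (Y ⧸ C)), a ^ 4 = 1 := by
    rintro ⟨_, s, hs, rfl⟩
    exact Subtype.ext (show π s ^ 4 = 1 by rw [← map_pow, h4 s hs, map_one])
  obtain ⟨e⟩ := equiv_four_four hc1 h16 h41 hkk
  -- modulo the odd core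
  set O := pPrimeCore 2 (Y ⧸ C)
  set σ := QuotientGroup.mk' O with hσ
  set P2 := P1.mapSurjective (f := σ) (QuotientGroup.mk'_surjective O)
  let φ := σ.comp (P1 : Subgroup (Y ⧸ C)).subtype
  have hφ : Function.Injective φ := by
    rw [← MonoidHom.ker_eq_bot_iff, eq_bot_iff_forall]
    intro w hw
    have hwO : (w : Y ⧸ C) ∈ O := (QuotientGroup.eq_one_iff _).mp hw
    obtain ⟨i, hi⟩ := isTwoEl_of_mem P1.2 w.2
    refine Subtype.ext (orderOf_eq_one_iff.mp (Nat.eq_one_of_dvd_coprimes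
      ((CfsgLib.card_pPrimeCore_coprime (G := Y ⧸ C) 2).pow_right i).symm (hi ▸ dvd_rfl)
      (Subgroup.orderOf_dvd_natCard _ hwO)))
  have hr : φ.range = (P2 : Subgroup ((Y ⧸ C) ⧸ O)) := by
    rw [MonoidHom.range_comp, Subgroup.range_subtype]
    rfl
  have hn2 := (Cfsg.Agent.S0949.result P2 2 le_rfl
    (((MonoidHom.ofInjective hφ).trans (MulEquiv.subgroupCongr hr)).symm.trans e) fun N hN hNodd => by
      haveI := hN
      exact le_bot_iff.mp ((CfsgLib.pPrimeCore_quotient_eq_bot (G := Y ⧸ C) 2) ▸ CfsgLib.le_oddCore hNodd)).1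
  haveI := hn2
  set f : Y →* (Y ⧸ C) ⧸ O := σ.comp π with hf
  set L := f.ker with hL
  set K := ((P2 : Subgroup ((Y ⧸ C) ⧸ O))).comap f with hK
  have hPK : (P : Subgroup Y) ≤ K := fun t ht => mem_map_of_mem σ (mem_map_of_mem π ht)
  have hKle : K ≤ L ⊔ (P : Subgroup Y) := by
    rintro g ⟨_, ⟨t, ht, rfl⟩, e⟩
    have h1 : g * t⁻¹ ∈ L := by
      show f (g * t⁻¹) = 1
      rw [map_mul, map_inv]
      exact mul_inv_eq_one.mpr e.symm
    have := mul_mem (mem_sup_left (T := (P : Subgroup Y)) h1) (mem_sup_right ht)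
    rwa [inv_mul_cancel_right] at this
  -- the kernel
  have hLle : L ≤ pPrimeCore 2 Y ⊔ (P : Subgroup Y) := by
    intro g hg
    obtain ⟨PL⟩ : Nonempty (Sylow 2 L) := inferInstance
    have hPC : ∀ p ∈ (PL : Subgroup L), (p : Y) ∈ C := fun p hp => by
      refine (hk _).mp (orderOf_eq_one_iff.mp ?_)
      obtain ⟨i, hi⟩ := isTwoEl_of_mem (PL.2.map L.subtype) (mem_map_of_mem L.subtype hp)
      have hd1 : orderOf (π p) ∣ 2 ^ i := hi ▸ orderOf_map_dvd π (p : Y)
      have hd2 : orderOf (π p) ∣ Nat.card O :=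
        Subgroup.orderOf_dvd_natCard _ ((QuotientGroup.eq_one_iff (π (p : Y))).mp p.2)
      exact Nat.eq_one_of_dvd_coprimes ((CfsgLib.card_pPrimeCore_coprime (G := Y ⧸ C) 2).pow_right i).symm hd1 hd2
    have hN : HasNormalPComplement 2 L :=
      CfsgLib.hasNormalPComplement_of_normalizer_le_centralizer PL fun m _ =>
        mem_centralizer_iff.mpr fun p hp => Subtype.ext
          (mem_center_iff.mp ((zpowers_le.mpr hxc : C ≤ center Y) (hPC p hp)) m).symm
    obtain ⟨o, ho, s, hs, e⟩ := exists_core_mul hN PL ⟨g, hg⟩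
    rw [show g = (o : Y) * (s : Y) from congrArg Subtype.val e]
    exact mul_mem (mem_sup_left (CfsgLib.map_pPrimeCore_le 2 L (mem_map_of_mem L.subtype ho)))
      (mem_sup_right (hCP (hPC s hs)))
  have hfr : normalizer ((P : Subgroup Y) : Set Y) ⊔ K = ⊤ := Sylow.normalizer_sup_eq_top' P hPK
  refine ⟨?_, top_le_iff.mp (hfr ▸ sup_le le_sup_right ((hKle.trans (sup_le (hLle.trans
    (sup_le le_sup_left (le_normalizer.trans le_sup_right))) (le_normalizer.trans le_sup_right)))))⟩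
  refine isSolvable_of_ext C (isSolvable_of_comm fun a b => ?_) ?_
  · exact Subtype.ext (hcomm _ (hCP a.2) _ (hCP b.2))
  · refine isSolvable_of_ext O (Cfsg.Agent.S0205.result (Nat.coprime_two_right.mp
      (CfsgLib.card_pPrimeCore_coprime 2))) (isSolvable_of_ext (P2 : Subgroup ((Y ⧸ C) ⧸ O)) ?_
      (Cfsg.Agent.S0205.result ?_))
    · haveI := P2.2.isNilpotent
      infer_instance
    · exact Nat.not_even_iff_odd.mp fun he => P2.not_dvd_index (by
        rw [Subgroup.index_eq_card]; exact even_iff_two_dvd.mp he)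

end CfsgLib.U3Type
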