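import Cfsg.Agent.Lib.U3Type.Central
import Cfsg.Agent.Lib.U3Type.Dihedral
import Cfsg.Agent.Lib.StronglyEmbedded
import Cfsg.Agent.S0215
import Cfsg.Agent.S0217
import Cfsg.Agent.S1279
import Cfsg.Agent.S0205

/-!
The odd subgroup generated by the cores of the centralizers and the subgroup containing all the centralizers.
-/

set_option autoImplicit false
set_option linter.unusedSectionVars false
set_option linter.style.haveILetI false

namespace CfsgLib.U3Type

open Subgroup Cfsg CfsgLib.HallE8 CfsgLib.ZCReduction CfsgLib.PiClosedTwo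

universe u

variable {G : Type u} [Group G] [Finite G]

/-- The reduced configuration with known centralizers. -/
structure Cfg (S : Sylow 2 G) (n : ℕ) : Prop where
  hs : U3 (S : Subgroup G) n
  hn : 3 ≤ n
  core : oddCore G = ⊥
  odd : ∀ N : Subgroup G, N.Normal → Odd N.index → N = ⊤
  solv : ∀ b ∈ zee S, b ∉ center G → Group.IsSolvable ↥(centralizer ({b} : Set G))
  dec : ∀ b ∈ zee S, b ∉ center G →
    centralizer ({b} : Set G) ≤ theta b ⊔ normalizer ((S : Subgroup G) : Set G)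

theorem theta_congr {a b : G} (h : centralizer ({a} : Set G) = centralizer ({b} : Set G)) : theta a = theta b := by
  unfold theta centralizerPPrimeCore
  rw [h]

theorem centralizer_mul_center {a z : G} (hz : z ∈ center G) :
    centralizer ({a * z} : Set G) = centralizer ({a} : Set G) := by
  ext g
  simp only [mem_centralizer_singleton_iff]
  rw [← mul_assoc, mul_assoc a z g, ← mem_center_iff.mp hz g, ← mul_assoc a g z, mul_left_inj]

theorem conj_center {b : G} (g : G) : g * b * g⁻¹ ∈ center G ↔ b ∈ center G := by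
  refine ⟨fun h => ?_, fun h => (center G).normal_of_characteristic.conj_mem b h g⟩
  have := (center G).normal_of_characteristic.conj_mem _ h g⁻¹
  rwa [show g⁻¹ * (g * b * g⁻¹) * g⁻¹⁻¹ = b by group] at this

/-- The subgroup generated by the cores of the non-central involutions of the centre. -/
def cores (S : Sylow 2 G) : Subgroup G := ⨆ b : {b : G // b ∈ zee S ∧ b ∉ center G}, theta (b : G)

open scoped Classical in
/-- The subgroup containing the centralizers. -/
noncomputable def big (S : Sylow 2 G) : Subgroup G :=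
  if cores S = ⊥ then normalizer ((S : Subgroup G) : Set G) else normalizer (cores S : Set G)

/-- A complement inside an elementary abelian `2`-subgroup. -/
theorem exists_compl {V R : Subgroup G} (hV : IsElementaryAbelian 2 V) (hR : R ≤ V) :
    ∃ A : Subgroup G, A ≤ V ∧ A ⊓ R = ⊥ ∧ ∀ v ∈ V, ∃ a ∈ A, ∃ r ∈ R, v = a * r := by
  have hc : ∀ x ∈ V, ∀ y ∈ V, x * y = y * x := fun x hx y hy =>
    congrArg Subtype.val (hV.1.is_comm.comm ⟨x, hx⟩ ⟨y, hy⟩)
  obtain ⟨A, ⟨hA, hAR⟩, hmax⟩ := (Set.toFinite {A : Subgroup G | A ≤ V ∧ A ⊓ R = ⊥}).exists_maximal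
    ⟨⊥, bot_le, bot_inf_eq R⟩
  refine ⟨A, hA, hAR, fun v hv => ?_⟩
  by_contra hno
  push Not at hno
  have hvn : zpowers v ≤ normalizer (A : Set G) := zpowers_le.mpr
    (CfsgLib.Comp.mem_normalizer_of_maps fun x hx => by rwa [hc v hv x (hA hx), mul_inv_cancel_right])
  have hA' : A ⊔ zpowers v ≤ V := sup_le hA (zpowers_le.mpr hv)
  have hAR' : (A ⊔ zpowers v) ⊓ R = ⊥ := by
    rw [eq_bot_iff_forall]
    rintro x ⟨hx, hxR⟩
    obtain ⟨a, ha, w, hw, rfl⟩ := CfsgLib.mem_sup_of_le_normalizer hvn hx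
    obtain ⟨i, rfl⟩ := mem_zpowers_iff.mp hw
    obtain ⟨k, rfl | rfl⟩ := Int.even_or_odd' i
    · rw [zpow_mul, zpow_ofNat, hV.2 v hv, one_zpow, mul_one] at hxR ⊢
      exact mem_bot.mp (hAR ▸ (⟨ha, hxR⟩ : a ∈ A ⊓ R))
    · rw [zpow_add, zpow_mul, zpow_ofNat, hV.2 v hv, one_zpow, one_mul, zpow_one] at hxR
      exact absurd (show v = a⁻¹ * (a * v) by group) (hno a⁻¹ (inv_mem ha) (a * v) hxR)
  exact hno v (hmax ⟨hA', hAR'⟩ le_sup_left (mem_sup_right (mem_zpowers v))) 1 (one_mem R) (mul_one v).symm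

namespace Cfg

variable {S : Sylow 2 G} {n : ℕ}

theorem cores_map (h : Cfg S n) {g : G} (hg : g ∈ normalizer ((S : Subgroup G) : Set G)) :
    g ∈ normalizer (cores S : Set G) := by
  refine CfsgLib.Comp.mem_normalizer_of_maps fun x hx => ?_
  suffices hle : (cores S).map (MulAut.conj g).toMonoidHom ≤ cores S from hle ⟨x, hx, rfl⟩
  rw [cores, Subgroup.map_iSup]
  refine iSup_le fun b => ?_
  rw [theta_conj]
  exact le_iSup (fun b : {b : G // b ∈ zee S ∧ b ∉ center G} => theta (b : G))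
    ⟨g * b * g⁻¹, (mem_normalizer_iff.mp (sylow_normalizer_le h.hs hg) b).mp b.2.1,
      fun e => b.2.2 ((conj_center g).mp e)⟩

theorem theta_le_cores {b : G} (hb : b ∈ zee S) (hbc : b ∉ center G) : theta b ≤ cores S :=
  le_iSup (fun b : {b : G // b ∈ zee S ∧ b ∉ center G} => theta (b : G)) ⟨b, hb, hbc⟩

theorem normalizer_le_big (h : Cfg S n) : normalizer ((S : Subgroup G) : Set G) ≤ big S := by
  unfold big
  split_ifs
  · exact le_rfl
  · exact fun g hg => h.cores_map hg

theorem cent_le_big (h : Cfg S n) {b : G} (hb : b ∈ zee S) (hbc : b ∉ center G) :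
    centralizer ({b} : Set G) ≤ big S := by
  refine (h.dec b hb hbc).trans (sup_le ?_ h.normalizer_le_big)
  unfold big
  split_ifs with he
  · exact (theta_le_cores hb hbc).trans (he.le.trans bot_le)
  · exact (theta_le_cores hb hbc).trans le_normalizer

theorem sylow_le_big (h : Cfg S n) : (S : Subgroup G) ≤ big S := le_normalizer.trans h.normalizer_le_big

/-- Fusion of the non-central involutions happens inside. -/
theorem mem_big (h : Cfg S n) {g b : G} (hb : b ∈ zee S) (hbc : b ∉ center G)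
    (hg : g * b * g⁻¹ ∈ (S : Subgroup G)) : g ∈ big S := by
  have hb1 : b ≠ 1 := fun e => hbc (e ▸ one_mem _)
  obtain ⟨c, hc, hn'⟩ := exists_fusion h.hs hb hb1 hg
  have h1 := h.cent_le_big (mem_zee_of_sq h.hs hg (IsInvol.conj ⟨hb1, zee_sq h.hs hb⟩ g).2)
    (fun e => hbc ((conj_center g).mp e)) hc
  have := mul_mem (inv_mem h1) (h.normalizer_le_big hn')
  rwa [inv_mul_cancel_left] at this

theorem cent_invol_le_big (h : Cfg S n) {w : G} (hw : w ∈ big S) (hwi : IsInvol w) (hwc : w ∉ center G) :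
    centralizer ({w} : Set G) ≤ big S := by
  haveI : Fact (Nat.Prime 2) := ⟨Nat.prime_two⟩
  intro g hg
  have hp : IsPGroup 2 ((zpowers w).subgroupOf (big S)) :=
    ((IsPGroup.of_card (n := 1) (by rw [Nat.card_zpowers, hwi.orderOf_eq, pow_one])) :
      IsPGroup 2 (zpowers w)).comap_of_injective (big S).subtype (big S).subtype_injective
  obtain ⟨⟨m, hm⟩, hmS⟩ := exists_conj_into_sylow (S.subtype h.sylow_le_big) hp
  have hz := mem_zee_of_sq h.hs (hmS ⟨w, hw⟩ (mem_zpowers w)) (hwi.conj m).2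
  have h2 := h.cent_le_big hz (fun e => hwc ((conj_center m).mp e))
    (mem_cent_of_commute (conj_commute m (commute_of_mem_cent hg)))
  have h3 := mul_mem (mul_mem (inv_mem hm) h2) hm
  rwa [show m⁻¹ * (m * g * m⁻¹) * m = g by group] at h3

/-- Some involution of the centre is not central in `G`, or `S` is everything. -/
theorem central_or (h : Cfg S n) : (∃ b ∈ zee S, b ∉ center G) ∨ (S : Subgroup G) = ⊤ := by
  by_cases hV : zee S ≤ center G
  · exact Or.inr (eq_top_of_central h.hs (by have := h.hn; omega) h.core h.odd hV)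
  · exact Or.inl (SetLike.not_le_iff_exists.mp hV)

/-- The cores generate a subgroup of odd order, given a large complement to the central part. -/
theorem odd_cores (h : Cfg S n) (hbig : 8 * Nat.card (zee S ⊓ center G : Subgroup G) ≤ 2 ^ n) :
    Odd (Nat.card (cores S)) := by
  haveI : Fact (Nat.Prime 2) := ⟨Nat.prime_two⟩
  obtain ⟨A, hA, hAR, hdec⟩ := exists_compl (zee_elementary h.hs) (inf_le_left : zee S ⊓ center G ≤ zee S)
  have h8 : 2 ^ 3 ≤ Nat.card A := by
    have hs : Nat.card (zee S) ≤ Nat.card A * Nat.card (zee S ⊓ center G : Subgroup G) := by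
      rw [← Nat.card_prod]
      choose a ha r hr e using fun v : zee S => hdec v v.2
      exact Nat.card_le_card_of_injective (fun v => (⟨a v, ha v⟩, ⟨r v, hr v⟩)) fun v w hvw =>
        Subtype.ext (by
          rw [e v, e w, show a v = a w from congrArg (fun p => (p.1 : G)) hvw,
            show r v = r w from congrArg (fun p => (p.2 : G)) hvw])
    rw [card_zee h.hs] at hs
    exact Nat.le_of_mul_le_mul_right (hbig.trans hs) Nat.card_pos
  have hAc : ∀ a ∈ A, a ≠ 1 → a ∉ center G := fun a ha ha1 hac =>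
    ha1 (mem_bot.mp (hAR ▸ (⟨ha, hA ha, hac⟩ : a ∈ A ⊓ (zee S ⊓ center G))))
  have hAe : IsElementaryAbelian 2 A := CfsgLib.SolvSF.ea_of_comm
    (fun a ha b hb => zee_comm (hA ha) (zee_le S (hA hb))) fun a ha => by rw [pow_two]; exact zee_sq h.hs (hA ha)
  obtain ⟨⟨h1, h2, h3, h4⟩, h5⟩ := Cfsg.Agent.S1279.result 2 A hAe
    ((Nat.pow_le_pow_right two_pos (by norm_num)).trans h8) fun a ha ha1 => h.solv a (hA ha) (hAc a ha ha1)
  have hodd := (Cfsg.Agent.S0217.result (p := 2) A (fun x hx y hy => zee_comm (hA hx) (zee_le S (hA hy))) hAe.2 h8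
    (fun w => theta w) h1 h2 h3 h5 h4).1
  refine Nat.odd_iff.mpr (Nat.two_dvd_ne_zero.mp fun hd => hodd (hd.trans (card_dvd_of_le ?_)))
  refine iSup_le fun b => ?_
  obtain ⟨a, ha, r, hr, e⟩ := hdec b b.2.1
  have ha1 : a ≠ 1 := fun ea => b.2.2 (by rw [e, ea, one_mul]; exact hr.2)
  rw [theta_congr (show centralizer ({(b : G)} : Set G) = centralizer ({a} : Set G) by
    rw [e]; exact centralizer_mul_center hr.2)]
  exact le_iSup (fun w : {w : G // w ∈ A ∧ w ≠ 1} => theta (w : G)) ⟨a, ha, ha1⟩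

theorem big_ne_top (h : Cfg S n) (hW : Odd (Nat.card (cores S))) (hne : (S : Subgroup G) ≠ ⊤) :
    big S ≠ ⊤ := by
  unfold big
  split_ifs with he
  · intro e
    haveI : (S : Subgroup G).Normal := normalizer_eq_top_iff.mp e
    exact hne (h.odd _ inferInstance (Nat.not_even_iff_odd.mp fun hd => by
      haveI : Fact (Nat.Prime 2) := ⟨Nat.prime_two⟩
      exact S.not_dvd_index (even_iff_two_dvd.mp hd)))
  · intro e
    haveI : (cores S).Normal := normalizer_eq_top_iff.mp e
    exact he (le_bot_iff.mp (h.core ▸ CfsgLib.le_oddCore hW))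

/-- An element of the normalizer of odd order moving the centre, when the centre is partly central. -/
theorem exists_moving (h : Cfg S n) {b : G} (hb : b ∈ zee S) (hbc : b ∉ center G) :
    ∃ w ∈ normalizer ((S : Subgroup G) : Set G), Odd (orderOf w) ∧ w ∉ centralizer (zee S : Set G) := by
  have hb1 : b ≠ 1 := fun e => hbc (e ▸ one_mem _)
  obtain ⟨g, hg, hgb⟩ : ∃ g : G, g * b * g⁻¹ ∈ (S : Subgroup G) ∧ g * b * g⁻¹ ≠ b := by
    by_contra hc
    push Not at hc
    obtain ⟨N, hN, hNodd, hNz⟩ := Cfsg.Agent.S0215.result S b (IsInvol.orderOf_eq ⟨hb1, zee_sq h.hs hb⟩)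
      (zee_le S hb) hc
    haveI := hN
    have e : N = ⊥ := le_bot_iff.mp (h.core ▸ CfsgLib.le_oddCore hNodd)
    exact hbc (mem_center_iff.mpr fun g =>
      (mul_inv_eq_iff_eq_mul.mp (mul_inv_eq_one.mp (mem_bot.mp (e ▸ hNz g)))).symm)
  obtain ⟨c, hc, hn'⟩ := exists_fusion h.hs hb hb1 hg
  obtain ⟨u, hu, w, hw, hu2, hwo, e⟩ := CfsgLib.U34Char.exists_parts (c * g)
  have hle : zpowers (c * g) ≤ normalizer ((S : Subgroup G) : Set G) := zpowers_le.mpr hn'
  refine ⟨w, hle hw, hwo, fun hwc => hgb ?_⟩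
  have hucg : c * g * b * (c * g)⁻¹ = b := by
    rw [e, show u * w * b * (u * w)⁻¹ = u * (w * b * w⁻¹) * u⁻¹ by group,
      ← mem_centralizer_iff.mp hwc b hb, mul_inv_cancel_right,
      ← zee_comm hb (mem_of_twoEl_normalizer S hu2 (hle hu)), mul_inv_cancel_right]
  rw [show c * g * b * (c * g)⁻¹ = c * (g * b * g⁻¹) * c⁻¹ by group, commute_of_mem_cent hc,
    mul_inv_cancel_right] at hucg
  exact hucg

theorem strongly (h : Cfg S n) (hR : ∀ b ∈ zee S, b ≠ 1 → b ∉ center G) (hne : big S ≠ ⊤) :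
    IsStronglyPEmbedded 2 (big S) := by
  haveI : Fact (Nat.Prime 2) := ⟨Nat.prime_two⟩
  obtain ⟨a, ha, ha1⟩ := exists_invol h.hs (by have := h.hn; omega)
  refine CfsgLib.StronglyEmbedded.of_normalizers hne
    (CfsgLib.StronglyEmbedded.dvd_card_of_mem (h.sylow_le_big (zee_le S ha))
      (IsInvol.orderOf_eq ⟨ha1, zee_sq h.hs ha⟩)) fun A hAY hA hA1 g hg => ?_
  obtain ⟨t, htA, ht⟩ := CfsgLib.StronglyEmbedded.exists_orderOf_eq (p := 2)
    (CfsgLib.StronglyEmbedded.dvd_card_of_ne_bot hA hA1)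
  obtain ⟨⟨m, hm⟩, hmS⟩ := exists_conj_into_sylow (S.subtype h.sylow_le_big) (P := A.subgroupOf (big S))
    (hA.comap_of_injective (big S).subtype (big S).subtype_injective)
  have hti := isInvol_of_orderOf ht
  have hz : m * t * m⁻¹ ∈ zee S := mem_zee_of_sq h.hs (hmS ⟨t, hAY htA⟩ htA) (hti.conj m).2
  have hgt : g * t * g⁻¹ ∈ A := (mem_normalizer_iff.mp hg t).mp htA
  have h1 : m * (g * t * g⁻¹) * m⁻¹ ∈ (S : Subgroup G) := hmS ⟨_, hAY hgt⟩ hgt
  have h2 := h.mem_big (g := m * g * m⁻¹) hz (hR _ hz (hti.conj m).1) (by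
    rwa [show m * g * m⁻¹ * (m * t * m⁻¹) * (m * g * m⁻¹)⁻¹ = m * (g * t * g⁻¹) * m⁻¹ by group])
  have h3 := mul_mem (mul_mem (inv_mem hm) h2) hm
  rwa [show m⁻¹ * (m * g * m⁻¹) * m = g by group] at h3

theorem pow_bound (m : ℕ) (hm : 3 ≤ m) : 2 * m + 1 < 2 ^ m := by
  induction m, hm using Nat.le_induction with
  | base => norm_num
  | succ k hk ih => rw [pow_succ]; omega

/-- For `n ≥ 5` the centre is central or meets the centre trivially. -/
theorem not_partly_central (h : Cfg S n) (h5 : 5 ≤ n) {a b : G} (ha : a ∈ zee S) (ha1 : a ≠ 1) (hac : a ∈ center G)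
    (hb : b ∈ zee S) (hbc : b ∉ center G) : False := by
  haveI : Fact (Nat.Prime 2) := ⟨Nat.prime_two⟩
  set R := zee S ⊓ center G with hRdef
  obtain ⟨w, hw, -, hwm⟩ := h.exists_moving hb hbc
  have hR2 := card_fix_le h.hs ha ha1 hac hw hwm
  obtain ⟨r, hr⟩ := IsPGroup.iff_card.mp ((S.2.to_le (inf_le_left.trans (zee_le S))) : IsPGroup 2 R)
  rw [← hRdef, hr, ← pow_mul, Nat.pow_le_pow_iff_right (by norm_num)] at hR2
  have hodd := h.odd_cores (by
    rw [← hRdef, hr, show 8 = 2 ^ 3 from rfl, ← pow_add]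
    exact Nat.pow_le_pow_right two_pos (by omega))
  have hne := h.big_ne_top hodd fun e => by
    refine hbc (mem_center_iff.mpr fun g => ?_)
    exact (zee_comm hb (show g ∈ (S : Subgroup G) from e ▸ mem_top g)).symm
  obtain ⟨g, hg⟩ : ∃ g : G, g ∉ big S := by
    by_contra hc
    push Not at hc
    exact hne ((eq_top_iff' _).mpr hc)
  set O := {v : G | ∃ k ∈ normalizer ((S : Subgroup G) : Set G), k * b * k⁻¹ = v} with hO
  have hOn : O.ncard ≤ n := orbit_le h.hs ha ha1 hac hb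
  have hb1 : b ≠ 1 := fun e => hbc (e ▸ one_mem _)
  have hbi : IsInvol b := ⟨hb1, zee_sq h.hs hb⟩
  have hu : g * b * g⁻¹ ∉ big S := fun hm => hg (by
    obtain ⟨⟨m, hm'⟩, hmS⟩ := exists_conj_into_sylow (S.subtype h.sylow_le_big)
      (P := (zpowers (g * b * g⁻¹)).subgroupOf (big S))
      (((IsPGroup.of_card (n := 1) (by rw [Nat.card_zpowers, (hbi.conj g).orderOf_eq, pow_one])) :
        IsPGroup 2 (zpowers (g * b * g⁻¹))).comap_of_injective (big S).subtype (big S).subtype_injective)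
    have h1 : m * (g * b * g⁻¹) * m⁻¹ ∈ (S : Subgroup G) := hmS ⟨_, hm⟩ (mem_zpowers _)
    have h2 := h.mem_big (g := m * g) hb hbc (by
      rwa [show m * g * b * (m * g)⁻¹ = m * (g * b * g⁻¹) * m⁻¹ by group])
    have := mul_mem (inv_mem hm') h2
    rwa [inv_mul_cancel_left] at this)
  have hcover : (zee S : Set G) ⊆ (fun p : G × G => p.1 * p.2) '' ((O ∪ {1}) ×ˢ (R : Set G)) := by
    intro v hv
    by_cases hvc : v ∈ center G
    · exact ⟨(1, v), ⟨Or.inr rfl, hv, hvc⟩, one_mul v⟩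
    have hv1 : v ≠ 1 := fun e => hvc (e ▸ one_mem _)
    obtain ⟨z, hzc, hz2, hvz⟩ := isConj_translate h.hs (fun w hw hwi hwc => h.cent_invol_le_big hw hwi hwc)
      (s := v) ⟨hv1, zee_sq h.hs hv⟩ (h.sylow_le_big (zee_le S hv)) hvc (hbi.conj g) hu
    obtain ⟨d, hd⟩ := isConj_iff.mp hvz
    have hzS : z ∈ zee S := by
      by_cases hz1 : z = 1
      · exact hz1 ▸ one_mem _
      obtain ⟨m, hm⟩ := exists_conj_zee h.hs ⟨hz1, hz2⟩
      rwa [mem_center_iff.mp hzc m, mul_inv_cancel_right] at hm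
    have hk : g⁻¹ * d * v * (g⁻¹ * d)⁻¹ = b * z := by
      calc g⁻¹ * d * v * (g⁻¹ * d)⁻¹ = g⁻¹ * (d * v * d⁻¹) * g := by group
        _ = b * (g⁻¹ * z * g) := by rw [hd]; group
        _ = b * z := by rw [mem_center_iff.mp hzc g⁻¹, inv_mul_cancel_right]
    obtain ⟨c, hc, hn'⟩ := exists_fusion h.hs hv hv1 (g := g⁻¹ * d) (by
      rw [hk]; exact mul_mem (zee_le S hb) (zee_le S hzS))
    set k := c * (g⁻¹ * d) with hkdef
    have hkv : k * v * k⁻¹ = b * z := by
      rw [hkdef, show c * (g⁻¹ * d) * v * (c * (g⁻¹ * d))⁻¹ = c * (g⁻¹ * d * v * (g⁻¹ * d)⁻¹) * c⁻¹ by group,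
        commute_of_mem_cent hc, mul_inv_cancel_right, hk]
    refine ⟨(k⁻¹ * b * k, z), ⟨Or.inl ⟨k⁻¹, inv_mem hn', by rw [inv_inv]⟩, hzS, hzc⟩, ?_⟩
    show k⁻¹ * b * k * z = v
    rw [mul_assoc (k⁻¹ * b), mem_center_iff.mp hzc k, ← mul_assoc, mul_assoc k⁻¹ b z, ← hkv]
    group
  have hcount := (Set.ncard_le_ncard hcover (Set.toFinite _)).trans (Set.ncard_image_le (Set.toFinite _))
  rw [Set.ncard_prod, ← Nat.card_coe_set_eq, SetLike.coe_sort_coe, card_zee h.hs] at hcount
  have hcount' : 2 ^ n ≤ (n + 1) * 2 ^ r := by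
    rw [← hr]
    refine hcount.trans ?_
    rw [← Nat.card_coe_set_eq (R : Set G), SetLike.coe_sort_coe]
    exact Nat.mul_le_mul_right _ ((Set.ncard_union_le _ _).trans (by rw [Set.ncard_singleton]; omega))
  have hmb := pow_bound (n - r) (by omega)
  rw [show n = n - r + r by omega, pow_add] at hcount'
  have := Nat.le_of_mul_le_mul_right hcount' (by positivity)
  omega

end Cfg

end CfsgLib.U3Type
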