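import Cfsg.Agent.Lib.U3Type.Local
import Cfsg.Agent.Lib.U3Type.Homocyclic
import Cfsg.Agent.Lib.ExtremelyClosed.Descent

/-!
The case `n = 3`: no central involution unless the centre is central.
-/

set_option autoImplicit false
set_option linter.unusedSectionVars false
set_option linter.style.haveILetI false

namespace CfsgLib.U3Type

open Subgroup Cfsg CfsgLib.HallE8 CfsgLib.ZCReduction CfsgLib.PiClosedTwo

universe u

variable {G : Type u} [Group G] [Finite G] {S : Sylow 2 G}

/-- The centralizer of an element whose square is a non-trivial central element of the centre. -/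
theorem cent_root (h : U3 (S : Subgroup G) 3) {x : G} (hx : x ∈ (S : Subgroup G)) (hx2 : x * x ≠ 1) :
    ∃ T : Sylow 2 ↥(centralizer ({x} : Set G)),
      (∀ t : ↥(centralizer ({x} : Set G)), t ∈ (T : Subgroup ↥(centralizer ({x} : Set G))) ↔ (t : G) ∈ (S : Subgroup G)) ∧
      Group.IsSolvable ↥(centralizer ({x} : Set G)) ∧
      pPrimeCore 2 ↥(centralizer ({x} : Set G)) ⊔
        normalizer ((T : Subgroup ↥(centralizer ({x} : Set G))) : Set ↥(centralizer ({x} : Set G))) = ⊤ := by
  classical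
  haveI : Fact (Nat.Prime 2) := ⟨Nat.prime_two⟩
  set Y := centralizer ({x} : Set G) with hY
  have hnc : ∀ y ∈ (S : Subgroup G), y * y ≠ 1 → y ∉ zee S := fun y _ hy2 hyZ => hy2 (zee_sq h hyZ)
  have hcardT : ∀ y ∈ (S : Subgroup G), y * y ≠ 1 →
      Nat.card ((S : Subgroup G) ⊓ centralizer ({y} : Set G) : Subgroup G) = 64 := by
    intro y hy hy2
    have e : (S : Subgroup G) ⊓ centralizer ({y} : Set G) =
        (centralizer ({(⟨y, hy⟩ : (S : Subgroup G))} : Set (S : Subgroup G))).map (S : Subgroup G).subtype := by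
      ext g
      constructor
      · rintro ⟨hgS, hg⟩
        exact ⟨⟨g, hgS⟩, mem_centralizer_singleton_iff.mpr (Subtype.ext (commute_of_mem_cent hg)), rfl⟩
      · rintro ⟨g, hg, rfl⟩
        exact ⟨g.2, mem_cent_of_commute (congrArg Subtype.val (mem_centralizer_singleton_iff.mp hg))⟩
    rw [e, card_map_of_injective (S : Subgroup G).subtype_injective,
      h.card_cent _ fun hc => hnc y hy hy2 ((center_iff_zee _).mp hc)]
    norm_num
  set T0 := (S : Subgroup G).subgroupOf Y with hT0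
  have hT0c : Nat.card T0 = 64 := by
    rw [← hcardT x hx hx2, ← card_map_of_injective Y.subtype_injective, hT0, subgroupOf_map_subtype]
  let T : Sylow 2 Y := ⟨T0, S.2.comap_of_injective Y.subtype Y.subtype_injective, by
    intro Q hQ hle
    obtain ⟨m, hm⟩ := exists_conj_into_sylow S (hQ.map Y.subtype)
    have hxY : x ∈ Y := mem_cent_of_commute rfl
    have hx' : m * x * m⁻¹ ∈ (S : Subgroup G) := hm x ⟨⟨x, hxY⟩, hle hx, rfl⟩
    have hx'2 : m * x * m⁻¹ * (m * x * m⁻¹) ≠ 1 := fun e => hx2 (by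
      rw [show m * x * m⁻¹ * (m * x * m⁻¹) = m * (x * x) * m⁻¹ by group] at e
      exact conj_eq_one_iff.mp e)
    refine (eq_of_le_of_card_ge hle ?_).symm
    rw [hT0c, ← hcardT _ hx' hx'2, ← card_map_of_injective Y.subtype_injective (K := Q),
      ← card_map_of_injective (MulEquiv.injective (MulAut.conj m)) (f := (MulAut.conj m).toMonoidHom)]
    refine card_le_of_le ?_
    rintro _ ⟨_, ⟨q, hq, rfl⟩, rfl⟩
    exact ⟨hm q ⟨q, hq, rfl⟩, mem_cent_of_commute (conj_commute m (commute_of_mem_cent q.2))⟩⟩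
  refine ⟨T, fun t => Iff.rfl, ?_⟩
  have hxY : x ∈ Y := mem_cent_of_commute rfl
  have hxx : x * x ∈ zee S := sq_mem h hx
  have hx4 : x ^ (2 ^ (1 + 1)) = 1 := by
    rw [show (2 : ℕ) ^ (1 + 1) = 2 + 2 by norm_num, pow_add, pow_two]
    exact zee_sq h hxx
  have hord : orderOf x = 4 :=
    orderOf_eq_prime_pow (p := 2) (n := 1) (by rwa [pow_one, pow_two]) hx4
  refine structure_of_homocyclic T ⟨x, hxY⟩ hx
    (mem_center_iff.mpr fun g => Subtype.ext (commute_of_mem_cent g.2)) (fun s hs t ht => ?_) ?_ (fun t ht => ?_) ?_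
  · refine Subtype.ext ?_
    show (s : G) * t = t * s
    exact congrArg (fun w : (S : Subgroup G) => (w : G)) (h.cent_comm ⟨x, hx⟩
      (fun hc => hnc x hx hx2 ((center_iff_zee _).mp hc)) ⟨s, hs⟩ ⟨t, ht⟩
      (Subtype.ext (commute_of_mem_cent s.2)) (Subtype.ext (commute_of_mem_cent t.2)))
  · rw [Subgroup.orderOf_mk, hord]
    exact hT0c
  · refine Subtype.ext ?_
    show (t : G) ^ 4 = 1
    rw [show 4 = 2 + 2 from rfl, pow_add, pow_two]
    exact zee_sq h (sq_mem h ht)
  · refine ⟨(zee S).subgroupOf Y, ?_, ⟨⟨x, hxY⟩ * ⟨x, hxY⟩, hxx, mul_mem (mem_zpowers _) (mem_zpowers _),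
      fun e => hx2 (congrArg Subtype.val e)⟩, fun t ht htt => ?_⟩
    · rw [← card_map_of_injective Y.subtype_injective, subgroupOf_map_subtype]
      exact (card_le_of_le inf_le_left).trans (card_zee h).le
    obtain ⟨i, hi⟩ := mem_zpowers_iff.mp htt
    have hi' : x ^ i = (t : G) * t := congrArg Subtype.val hi
    have hx22 : x ^ (2 : ℤ) = x * x := by rw [zpow_ofNat, pow_two]
    obtain ⟨k, rfl | rfl⟩ := Int.even_or_odd' i
    · obtain ⟨l, rfl | rfl⟩ := Int.even_or_odd' k
      · rw [← mul_assoc, zpow_mul, show (2 : ℤ) * 2 = ((2 ^ (1 + 1) : ℕ) : ℤ) by norm_num, zpow_natCast, hx4,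
          one_zpow] at hi'
        exact ⟨t, mem_zee_of_sq h ht hi'.symm, by rw [mul_inv_cancel]; exact one_mem _⟩
      · rw [mul_add, mul_one, zpow_add, ← mul_assoc, zpow_mul,
          show (2 : ℤ) * 2 = ((2 ^ (1 + 1) : ℕ) : ℤ) by norm_num, zpow_natCast, hx4, one_zpow, one_mul, hx22] at hi'
        have hcx : Commute (t : G) x := commute_of_mem_cent t.2
        refine ⟨t * (⟨x, hxY⟩ : Y)⁻¹, mem_zee_of_sq h (mul_mem ht (inv_mem hx)) ?_, by
          rw [mul_inv_rev, inv_inv, ← mul_assoc]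
          rw [show t * ⟨x, hxY⟩ = (⟨x, hxY⟩ : Y) * t from Subtype.ext hcx]
          rw [mul_inv_cancel_right]
          exact mem_zpowers _⟩
        show (t : G) * x⁻¹ * ((t : G) * x⁻¹) = 1
        rw [hcx.inv_right.symm.mul_mul_mul_comm, ← hi']
        group
    · exfalso
      have hmem : x ^ (2 * k + 1) ∈ zee S := hi' ▸ sq_mem h ht
      rw [zpow_add, zpow_mul, hx22, zpow_one] at hmem
      have := mul_mem (inv_mem ((zee S).zpow_mem hxx k)) hmem
      rw [inv_mul_cancel_left] at this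
      exact hnc x hx hx2 this

/-- The image of a core in the quotient by a central subgroup. -/
theorem map_theta_le {C : Subgroup G} [C.Normal] (hC : C ≤ center G) (s : G) :
    (theta s).map (QuotientGroup.mk' C) ≤ theta (QuotientGroup.mk' C s) := by
  set π := QuotientGroup.mk' C with hπ
  set D := centralizer ({π s} : Set (G ⧸ C))
  have hle : (theta s).map π ≤ D := by
    rintro _ ⟨g, hg, rfl⟩
    exact mem_cent_of_commute (by rw [← map_mul, ← map_mul, commute_of_mem_cent (theta_le_cent s hg)])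
  have hn : D ≤ normalizer ((theta s).map π : Set (G ⧸ C)) := fun q hq => by
    obtain ⟨g, rfl⟩ := QuotientGroup.mk'_surjective C q
    refine CfsgLib.Comp.mem_normalizer_of_maps ?_
    rintro _ ⟨w, hw, rfl⟩
    refine ⟨g * w * g⁻¹, ?_, by rw [map_mul, map_mul, map_inv]⟩
    have hr : (s⁻¹ * (g * s * g⁻¹)) ∈ C := (QuotientGroup.eq_one_iff _).mp (by
      show π (s⁻¹ * (g * s * g⁻¹)) = 1
      rw [map_mul, map_mul, map_mul, map_inv, map_inv, commute_of_mem_cent hq, mul_inv_cancel_right, inv_mul_cancel])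
    have h1 : theta (g * s * g⁻¹) = theta s := theta_congr (by
      rw [show g * s * g⁻¹ = s * (s⁻¹ * (g * s * g⁻¹)) by group]
      exact centralizer_mul_center (hC hr))
    exact h1 ▸ conj_mem_theta g hw
  haveI : (((theta s).map π).subgroupOf D).Normal := (normal_subgroupOf_iff_le_normalizer hle).mpr hn
  have hodd : Odd (Nat.card (((theta s).map π).subgroupOf D)) := by
    rw [Nat.card_congr (subgroupOfEquivOfLe hle).toEquiv]
    exact (odd_theta s).of_dvd_nat (card_map_dvd _ _)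
  intro q hq
  exact ⟨⟨q, hle hq⟩, CfsgLib.le_oddCore hodd hq, rfl⟩

namespace Cfg

variable (h : Cfg S 3)
include h

/-- **The case `n = 3`.** -/
theorem not_partly_central_three {a b : G} (ha : a ∈ zee S) (ha1 : a ≠ 1) (hac : a ∈ center G) (hb : b ∈ zee S)
    (hbc : b ∉ center G) : False := by
  classical
  haveI : Fact (Nat.Prime 2) := ⟨Nat.prime_two⟩
  set C := zpowers a with hCdef
  have hCc : C ≤ center G := zpowers_le.mpr hac
  haveI hCn : C.Normal := ⟨fun z hz g => by rwa [mem_center_iff.mp (hCc hz) g, mul_inv_cancel_right]⟩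
  have hCZ : C ≤ zee S := zpowers_le.mpr ha
  have hC2 : ∀ z ∈ C, z = 1 ∨ z = a := by
    intro z hz
    obtain ⟨i, rfl⟩ := mem_zpowers_iff.mp hz
    obtain ⟨k, rfl | rfl⟩ := Int.even_or_odd' i
    · exact Or.inl (by rw [zpow_mul, zpow_ofNat, pow_two, zee_sq h.hs ha, one_zpow])
    · exact Or.inr (by rw [zpow_add, zpow_mul, zpow_ofNat, pow_two, zee_sq h.hs ha, one_zpow, one_mul, zpow_one])
  -- the central part
  have hR : ∀ z ∈ zee S, z ∈ center G → z ∈ C := by
    intro z hz hzc
    obtain ⟨w, hw, -, hwm⟩ := h.exists_moving hb hbc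
    have h1 := card_fix_le h.hs ha ha1 hac hw hwm
    by_contra hzC
    have hsub : ({1, a, z} : Set G) ⊆ (zee S ⊓ center G : Subgroup G) := by
      rintro y (rfl | rfl | rfl)
      exacts [one_mem _, ⟨ha, hac⟩, ⟨hz, hzc⟩]
    have h3 := Set.ncard_le_ncard hsub (Set.toFinite _)
    rw [Set.ncard_eq_three.mpr ⟨1, a, z, ha1.symm, fun e => hzC (e ▸ one_mem _),
      fun e => hzC (e ▸ mem_zpowers a), rfl⟩, ← Nat.card_coe_set_eq, SetLike.coe_sort_coe] at h3
    have := Nat.pow_le_pow_left h3 2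
    omega
  set π := QuotientGroup.mk' C with hπ
  have hk : ∀ g : G, π g = 1 ↔ g ∈ C := fun g => QuotientGroup.eq_one_iff g
  set SQ := S.mapSurjective (f := π) (QuotientGroup.mk'_surjective C)
  have hsqC : ∀ s ∈ (S : Subgroup G), IsInvol (π s) → (s ∈ zee S ∧ s ∉ center G) ∨ s * s = a := by
    intro s hs hi
    rcases hC2 _ ((hk _).mp (by rw [map_mul]; exact hi.2)) with e | e
    · refine Or.inl ⟨mem_zee_of_sq h.hs hs e, fun hc => hi.1 ((hk s).mpr (hR s (mem_zee_of_sq h.hs hs e) hc))⟩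
    · exact Or.inr e
  have hcomm : ∀ z ∈ zee S, ∀ s ∈ (S : Subgroup G), π z * π s = π s * π z := fun z hz s hs => by
    rw [← map_mul, ← map_mul, zee_comm hz hs]
  have hlift : ∀ s g : G, π g ∈ centralizer ({π s} : Set (G ⧸ C)) → s⁻¹ * (g * s * g⁻¹) ∈ C := fun s g hg => by
    refine (hk _).mp ?_
    rw [map_mul, map_mul, map_mul, map_inv, map_inv, commute_of_mem_cent hg, mul_inv_cancel_right, inv_mul_cancel]
  -- the centralizers in the quotient are solvable
  have hsolvS : ∀ s ∈ (S : Subgroup G), IsInvol (π s) → Group.IsSolvable ↥(centralizer ({s} : Set G)) := by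
    intro s hs hi
    rcases hsqC s hs hi with ⟨hz, hc⟩ | e
    · exact h.solv s hz hc
    · obtain ⟨_, -, hsol, -⟩ := cent_root h.hs hs (e ▸ ha1)
      exact hsol
  have hsolvQ : ∀ s ∈ (S : Subgroup G), IsInvol (π s) →
      Group.IsSolvable ↥(centralizer ({π s} : Set (G ⧸ C))) := by
    intro s hs hi
    set D := centralizer ({π s} : Set (G ⧸ C))
    set H := D.comap π
    have hχ : ∀ g : H, s⁻¹ * ((g : G) * s * (g : G)⁻¹) ∈ C := fun g => hlift s g g.2
    let χ : H →* C :=
      { toFun := fun g => ⟨_, hχ g⟩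
        map_one' := Subtype.ext (by simp)
        map_mul' := fun g k => Subtype.ext (by
          show s⁻¹ * ((g : G) * k * s * ((g : G) * k)⁻¹) =
            s⁻¹ * ((g : G) * s * (g : G)⁻¹) * (s⁻¹ * ((k : G) * s * (k : G)⁻¹))
          have hc' := mem_center_iff.mp (hCc (hχ k)) (g : G)⁻¹
          calc s⁻¹ * ((g : G) * k * s * ((g : G) * k)⁻¹)
              = s⁻¹ * ((g : G) * (s * (s⁻¹ * ((k : G) * s * (k : G)⁻¹))) * (g : G)⁻¹) := by group
            _ = s⁻¹ * ((g : G) * s * ((s⁻¹ * ((k : G) * s * (k : G)⁻¹)) * (g : G)⁻¹)) := by group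
            _ = _ := by rw [← hc']; group) }
    have hker : Group.IsSolvable χ.ker := by
      haveI := hsolvS s hs hi
      let f : χ.ker →* centralizer ({s} : Set G) :=
        { toFun := fun g => ⟨((g : H) : G), mem_cent_of_commute (by
            have e : s⁻¹ * (((g : H) : G) * s * ((g : H) : G)⁻¹) = 1 := congrArg Subtype.val g.2
            exact mul_inv_eq_iff_eq_mul.mp (inv_mul_eq_one.mp e).symm)⟩
          map_one' := rfl
          map_mul' := fun _ _ => rfl }
      exact Group.isSolvable_of_isSolvable_injective (f := f) fun g k e =>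
        Subtype.ext (Subtype.ext (congrArg (fun w : centralizer ({s} : Set G) => (w : G)) e))
    haveI : Group.IsSolvable H := isSolvable_of_ext χ.ker hker
      (haveI : Group.IsSolvable C := isSolvable_of_comm fun p q => Subtype.ext (mem_center_iff.mp (hCc q.2) p)
       Group.isSolvable_of_isSolvable_injective (QuotientGroup.kerLift_injective χ))
    refine Group.isSolvable_of_surjective (f := π.subgroupComap D) fun q => ?_
    obtain ⟨g, hg⟩ := QuotientGroup.mk'_surjective C (q : G ⧸ C)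
    exact ⟨⟨g, show π g ∈ D by rw [hg]; exact q.2⟩, Subtype.ext hg⟩
  have hSC : SolvCent (G ⧸ C) := by
    intro t ht
    obtain ⟨m, hm⟩ := exists_conj_into_sylow SQ (P := zpowers t)
      (IsPGroup.of_card (n := 1) (by rw [Nat.card_zpowers, ht, pow_one]))
    obtain ⟨s, hs, e⟩ := hm t (mem_zpowers t)
    have hti := (isInvol_of_orderOf ht).conj m
    haveI := hsolvQ s hs (e ▸ hti)
    exact Group.isSolvable_of_isSolvable_injective
      (f := ((MulAut.conj m).toMonoidHom.comp (centralizer ({t} : Set (G ⧸ C))).subtype).codRestrict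
        (centralizer ({π s} : Set (G ⧸ C))) fun c => by
          rw [e]; exact mem_cent_of_commute (conj_commute m (commute_of_mem_cent c.2)))
      (fun p q e => Subtype.ext (MulEquiv.injective (MulAut.conj m)
        (congrArg (fun w : centralizer ({π s} : Set (G ⧸ C)) => (w : G ⧸ C)) e)))
  -- generators of the image of the centre
  obtain ⟨v, hv, hvno⟩ := exists_zee_notMem h.hs {1, a, b, b * a} (by
    refine lt_of_le_of_lt ((Set.ncard_insert_le _ _).trans (Nat.add_le_add_right ((Set.ncard_insert_le _ _).trans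
      (Nat.add_le_add_right (Set.ncard_insert_le _ _) 1)) 1)) ?_
    rw [Set.ncard_singleton]
    norm_num)
  simp only [Set.mem_insert_iff, Set.mem_singleton_iff, not_or] at hvno
  have hbC : b ∉ C := fun hh => hbc (hCc hh)
  have hinvZ : ∀ z ∈ zee S, z ∉ C → IsInvol (π z) := fun z hz hzC =>
    ⟨fun e => hzC ((hk z).mp e), by rw [← map_mul, zee_sq h.hs hz, map_one]⟩
  have hvC : v ∉ C := fun hh => by rcases hC2 v hh with e | e <;> simp [e] at hvno
  set p := π b with hp
  set q := π v with hq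
  have hpi : IsInvol p := hinvZ b hb hbC
  have hqi : IsInvol q := hinvZ v hv hvC
  have hpq : p ≠ q := fun e => by
    have h1 : b⁻¹ * v ∈ C := (hk _).mp (by rw [map_mul, map_inv, ← hp, ← hq, e, inv_mul_cancel])
    rcases hC2 _ h1 with e1 | e1
    · exact hvno.2.2.1 (inv_mul_eq_one.mp e1).symm
    · exact hvno.2.2.2 (inv_mul_eq_iff_eq_mul.mp e1)
  set W := theta p ⊔ theta q ⊔ theta (p * q) with hW
  have hWle : ∀ s ∈ (S : Subgroup G), IsInvol (π s) → theta (π s) ≤ W := fun s hs hi =>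
    theta_le_sup hSC hi hpi hqi hpq (hcomm b hb v (zee_le S hv)) (hcomm b hb s hs) (hcomm v hv s hs)
  set Z := (zee S).map π with hZ
  have hNW : normalizer (Z : Set (G ⧸ C)) ≤ normalizer (W : Set (G ⧸ C)) := by
    intro g hg
    have hmem : ∀ x ∈ Z, x ≠ 1 → (theta x).map (MulAut.conj g).toMonoidHom ≤ W := fun x hx hx1 => by
      rw [theta_conj]
      obtain ⟨z, hz, e⟩ := (mem_normalizer_iff.mp hg x).mp hx
      have hi : IsInvol (π z) := ⟨fun e' => hx1 (conj_eq_one_iff.mp (e.symm.trans e')), by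
        rw [← map_mul, zee_sq h.hs hz, map_one]⟩
      rw [← e]
      exact hWle z (zee_le S hz) hi
    refine CfsgLib.Comp.mem_normalizer_of_maps fun x hx => ?_
    suffices hle : W.map (MulAut.conj g).toMonoidHom ≤ W from hle ⟨x, hx, rfl⟩
    rw [hW, Subgroup.map_sup, Subgroup.map_sup]
    exact sup_le (sup_le (hmem p (mem_map_of_mem π hb) hpi.1) (hmem q (mem_map_of_mem π hv) hqi.1))
      (hmem (p * q) (mul_mem (mem_map_of_mem π hb) (mem_map_of_mem π hv))
        (hpi.mul hqi (hcomm b hb v (zee_le S hv)) hpq).1)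
  set M := W ⊔ normalizer (Z : Set (G ⧸ C)) with hM
  have hnZ : ∀ {X : Subgroup G}, zee S ≤ X → X ≤ (S : Subgroup G) → ∀ g ∈ normalizer (X : Set G),
      π g ∈ normalizer (Z : Set (G ⧸ C)) := by
    intro X h1 h2 g hg
    refine CfsgLib.Comp.mem_normalizer_of_maps ?_
    rintro _ ⟨z, hz, rfl⟩
    refine ⟨g * z * g⁻¹, mem_zee_of_sq h.hs (h2 ((mem_normalizer_iff.mp hg z).mp (h1 hz)))
      (by rw [show g * z * g⁻¹ * (g * z * g⁻¹) = g * (z * z) * g⁻¹ by group, zee_sq h.hs hz]; group), ?_⟩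
    rw [map_mul, map_mul, map_inv]
  have hNS : ∀ g ∈ normalizer ((S : Subgroup G) : Set G), π g ∈ M := fun g hg =>
    mem_sup_right (hnZ (zee_le S) le_rfl g hg)
  have hTM : ∀ s ∈ (S : Subgroup G), IsInvol (π s) → ∀ g ∈ theta s, π g ∈ M := fun s hs hi g hg =>
    mem_sup_left (hWle s hs hi (map_theta_le hCc s (mem_map_of_mem π hg)))
  have hcentZ : ∀ z ∈ zee S, z ∉ center G → ∀ g ∈ centralizer ({z} : Set G), π g ∈ M := by
    intro z hz hzc g hg
    have := h.dec z hz hzc hg
    have hi := hinvZ z hz fun hh => hzc (hCc hh)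
    have hle : theta z ⊔ normalizer ((S : Subgroup G) : Set G) ≤ M.comap π :=
      sup_le (hTM z (zee_le S hz) hi) hNS
    exact hle this
  have hfus : ∀ z ∈ zee S, z ∉ center G → ∀ g : G, g * z * g⁻¹ ∈ (S : Subgroup G) → π g ∈ M := by
    intro z hz hzc g hg
    have hz1 : z ≠ 1 := fun e => hzc (e ▸ one_mem _)
    obtain ⟨c, hc, hn'⟩ := exists_fusion h.hs hz hz1 hg
    have h1 := hcentZ _ (mem_zee_of_sq h.hs hg (IsInvol.conj ⟨hz1, zee_sq h.hs hz⟩ g).2)
      (fun e => hzc ((conj_center g).mp e)) c hc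
    have := mul_mem (inv_mem h1) (hNS _ hn')
    rwa [← map_inv, ← map_mul, inv_mul_cancel_left] at this
  -- all centralizers of involutions of the image of `S`
  have hcentQ : ∀ s ∈ (S : Subgroup G), IsInvol (π s) → centralizer ({π s} : Set (G ⧸ C)) ≤ M := by
    intro s hs hi t ht
    obtain ⟨g, rfl⟩ := QuotientGroup.mk'_surjective C t
    have hr := hlift s g ht
    rcases hsqC s hs hi with ⟨hz, hzc⟩ | e
    · refine hfus s hz hzc g ?_
      rw [show g * s * g⁻¹ = s * (s⁻¹ * (g * s * g⁻¹)) by group]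
      exact mul_mem hs (zee_le S (hCZ hr))
    have hroot := cent_root h.hs hs (e ▸ ha1)
    set Y := centralizer ({s} : Set G) with hY
    obtain ⟨T, hT, -, hfr⟩ := hroot
    have hYe : centralizer ({g * s * g⁻¹} : Set G) = Y := by
      rw [show g * s * g⁻¹ = s * (s⁻¹ * (g * s * g⁻¹)) by group]
      exact centralizer_mul_center (hCc hr)
    set T1 := ((T : Subgroup Y).map Y.subtype).map (MulAut.conj g).toMonoidHom
    obtain ⟨c, hc⟩ := exists_conj_into_sylow T (P := T1.subgroupOf Y)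
      (((T.2.map _).map _).comap_of_injective Y.subtype Y.subtype_injective)
    have hn' : (c : G) * g ∈ normalizer ((T : Subgroup Y).map Y.subtype : Set G) :=
      CfsgLib.Comp.mem_normalizer_of_maps fun y hy => by
        obtain ⟨w, hw, rfl⟩ := hy
        have hwY : g * w * g⁻¹ ∈ Y := hYe.le (mem_cent_of_commute (conj_commute g (commute_of_mem_cent w.2)))
        have := hc ⟨g * w * g⁻¹, hwY⟩ ⟨w, ⟨w, hw, rfl⟩, rfl⟩
        refine ⟨_, this, ?_⟩
        show (c : G) * (g * w * g⁻¹) * (c : G)⁻¹ = (c : G) * g * w * ((c : G) * g)⁻¹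
        group
    have hX1 : zee S ≤ (T : Subgroup Y).map Y.subtype := fun z hz =>
      ⟨⟨z, mem_cent_of_commute (zee_comm hz hs)⟩,
        (hT ⟨z, mem_cent_of_commute (zee_comm hz hs)⟩).mpr (zee_le S hz), rfl⟩
    have hX2 : (T : Subgroup Y).map Y.subtype ≤ (S : Subgroup G) := by
      rintro _ ⟨w, hw, rfl⟩
      exact (hT w).mp hw
    have h1 : π (c : G) ∈ M := by
      have hle : pPrimeCore 2 Y ⊔ normalizer ((T : Subgroup Y) : Set Y) ≤ M.comap (π.comp Y.subtype) := by
        refine sup_le (fun o ho => hTM s hs hi _ ⟨o, ho, rfl⟩) fun w hw => mem_sup_right (hnZ hX1 hX2 _ ?_)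
        exact CfsgLib.Comp.mem_normalizer_of_maps fun y ⟨y', hy', e'⟩ =>
          ⟨w * y' * w⁻¹, (mem_normalizer_iff.mp hw y').mp hy', by rw [← e']; rfl⟩
      exact hle (hfr.ge (mem_top c))
    have := mul_mem (inv_mem h1) (mem_sup_right (S := W) (hnZ hX1 hX2 _ hn'))
    rwa [← map_inv, ← map_mul, inv_mul_cancel_left] at this
  have hSM : (SQ : Subgroup (G ⧸ C)) ≤ M := by
    rintro _ ⟨s, hs, rfl⟩
    exact hNS s (le_normalizer hs)
  have hc : ∀ w ∈ M, IsInvol w → centralizer ({w} : Set (G ⧸ C)) ≤ M := by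
    intro w hw hwi g hg
    have hp' : IsPGroup 2 ((zpowers w).subgroupOf M) :=
      ((IsPGroup.of_card (n := 1) (by rw [Nat.card_zpowers, hwi.orderOf_eq, pow_one])) :
        IsPGroup 2 (zpowers w)).comap_of_injective M.subtype M.subtype_injective
    obtain ⟨⟨m, hm⟩, hmS⟩ := exists_conj_into_sylow (SQ.subtype hSM) hp'
    obtain ⟨s, hs, e⟩ := hmS ⟨w, hw⟩ (mem_zpowers w)
    have e' : π s = m * w * m⁻¹ := e
    have h2 : m * g * m⁻¹ ∈ M := hcentQ s hs (e' ▸ hwi.conj m)
      (by rw [e']; exact mem_cent_of_commute (conj_commute m (commute_of_mem_cent hg)))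
    have h3 := mul_mem (mul_mem (inv_mem hm) h2) hm
    rwa [show m⁻¹ * (m * g * m⁻¹) * m = g by group] at h3
  -- the subgroup is proper
  obtain ⟨x, hx, hxa⟩ := exists_root_zee h.hs ha
  have hxi : IsInvol (π x) := ⟨fun e => ha1 (by
    rcases hC2 x ((hk x).mp e) with e1 | e1
    · rw [← hxa, e1, one_mul]
    · rw [← hxa, e1, zee_sq h.hs ha]), by rw [← map_mul, hxa]; exact (hk a).mpr (mem_zpowers a)⟩
  have hxZ : x ∉ zee S := fun hh => ha1 (hxa ▸ zee_sq h.hs hh)
  have hne : M ≠ ⊤ := by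
    intro htop
    have hWn : normalizer (W : Set (G ⧸ C)) = ⊤ := top_le_iff.mp (htop ▸ sup_le le_normalizer hNW)
    haveI : W.Normal := normalizer_eq_top_iff.mp hWn
    have hxne : ∀ z ∈ zee S, π x ≠ π z := fun z hz e => hxZ (by
      have h1 : z⁻¹ * x ∈ C := (hk _).mp (by rw [map_mul, map_inv, e, inv_mul_cancel])
      have := mul_mem hz (hCZ h1)
      rwa [mul_inv_cancel_left] at this)
    have hodd : ¬ 2 ∣ Nat.card W := not_two_dvd_closure hSC hpi hqi hxi (hcomm b hb v (zee_le S hv))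
      (hcomm b hb x hx) (hcomm v hv x hx) hpq (hxne b hb) (hxne v hv)
      (by rw [hp, hq, ← map_mul]; exact hxne _ (mul_mem hb hv)) le_rfl
    have hQ : pPrimeCore 2 (G ⧸ C) = ⊥ := CfsgLib.ExtClosed.pPrimeCore_quotient_central C
      (S.2.to_le (hCZ.trans (zee_le S))) hCc h.core
    have hW1 : W = ⊥ := le_bot_iff.mp (hQ ▸ CfsgLib.le_pPrimeCore (Nat.prime_two.coprime_iff_not_dvd.mpr hodd).symm)
    have hN1 : normalizer (Z : Set (G ⧸ C)) = ⊤ := by rwa [hM, hW1, bot_sup_eq] at htop
    haveI : Z.Normal := normalizer_eq_top_iff.mp hN1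
    haveI : (zee S).Normal := ⟨fun z hz g => by
      obtain ⟨w, hw, e⟩ := (inferInstance : Z.Normal).conj_mem _ (mem_map_of_mem π hz) (π g)
      rw [← map_inv, ← map_mul, ← map_mul] at e
      have h1 : w⁻¹ * (g * z * g⁻¹) ∈ C := (hk _).mp (by rw [map_mul, map_inv, e, inv_mul_cancel])
      have := mul_mem hw (hCZ h1)
      rwa [mul_inv_cancel_left] at this⟩
    have hC1 : centralizer (zee S : Set G) = ⊤ := h.odd _ inferInstance (Nat.not_even_iff_odd.mp fun he =>
      S.not_dvd_index ((even_iff_two_dvd.mp he).trans (Subgroup.index_dvd_of_le (sylow_le_cent S))))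
    exact hbc (mem_center_iff.mpr fun g => (mem_centralizer_iff.mp (hC1.ge (mem_top g)) b hb).symm)
  obtain ⟨t, ht⟩ : ∃ t : G ⧸ C, t ∉ M := by
    by_contra hh
    push Not at hh
    exact hne ((eq_top_iff' M).mpr hh)
  obtain ⟨g, rfl⟩ := QuotientGroup.mk'_surjective C t
  set u := π g * p * (π g)⁻¹ with hu
  have huM : u ∉ M := by
    intro hm0
    have hp' : IsPGroup 2 ((zpowers u).subgroupOf M) :=
      ((IsPGroup.of_card (n := 1) (by rw [Nat.card_zpowers, (hpi.conj _).orderOf_eq, pow_one])) :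
        IsPGroup 2 (zpowers u)).comap_of_injective M.subtype M.subtype_injective
    obtain ⟨⟨m, hm⟩, hmS⟩ := exists_conj_into_sylow (SQ.subtype hSM) hp'
    obtain ⟨s, hs, e⟩ := hmS ⟨u, hm0⟩ (mem_zpowers u)
    obtain ⟨m, rfl⟩ := QuotientGroup.mk'_surjective C m
    have e' : π s = π (m * g * b * (m * g)⁻¹) := by
      refine (show π s = π m * u * (π m)⁻¹ from e).trans ?_
      rw [hu, hp]
      simp only [map_mul, map_inv]
      group
    have h1 : s⁻¹ * (m * g * b * (m * g)⁻¹) ∈ C := (hk _).mp (by rw [map_mul, map_inv, e', inv_mul_cancel])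
    have h2 := hfus b hb hbc (m * g) (by
      have := mul_mem hs (zee_le S (hCZ h1))
      rwa [mul_inv_cancel_left] at this)
    rw [map_mul] at h2
    have := mul_mem (inv_mem hm) h2
    rw [inv_mul_cancel_left] at this
    exact ht this
  have e1 := CfsgLib.PiClosedTwo.isConj_of_outside hc hpi (hSM (mem_map_of_mem π (zee_le S hb))) (hpi.conj _) huM
  have e2 := CfsgLib.PiClosedTwo.isConj_of_outside hc hxi (hSM (mem_map_of_mem π hx)) (hpi.conj _) huM
  obtain ⟨d, hd⟩ := isConj_iff.mp (e1.trans e2.symm)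
  obtain ⟨d, rfl⟩ := QuotientGroup.mk'_surjective C d
  have h1 : x⁻¹ * (d * b * d⁻¹) ∈ C := (hk _).mp (by
    rw [map_mul, map_mul, map_mul, map_inv, map_inv, ← hp, hd, inv_mul_cancel])
  set r := x⁻¹ * (d * b * d⁻¹) with hr
  refine ha1 ?_
  calc a = x * x * (r * r) := by rw [zee_sq h.hs (hCZ h1), mul_one, hxa]
    _ = x * (x * r) * r := by group
    _ = x * (r * x) * r := by rw [mem_center_iff.mp (hCc h1) x]
    _ = x * r * (x * r) := by group
    _ = d * (b * b) * d⁻¹ := by rw [hr]; group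
    _ = 1 := by rw [zee_sq h.hs hb]; group

end Cfg

end CfsgLib.U3Type
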