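import Cfsg.Agent.Lib.U3Type.Recognition
import Cfsg.Agent.Lib.U3Type.NThree

/-!
The groups with a Sylow `2`-subgroup of type `PSU(3, 2ⁿ)`.
-/

set_option autoImplicit false
set_option linter.unusedSectionVars false
set_option linter.style.haveILetI false

namespace CfsgLib.U3Type

open Subgroup Cfsg CfsgLib.HallE8 CfsgLib.ZCReduction CfsgLib.PiClosedTwo

universe u

variable {n : ℕ} {F : Type} [Field F] [Fintype F]

/-- The reduced statement for groups of a given order bound. -/
def RedStatement (n : ℕ) (F : Type) [Field F] [Fintype F] (k : ℕ) : Prop :=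
  ∀ (G : Type u) [Group G] [Finite G] (S : Sylow 2 G), Nat.card G ≤ k → U3 (S : Subgroup G) n →
    oddCore G = ⊥ → (∀ N : Subgroup G, N.Normal → Odd N.index → N = ⊤) →
      Nonempty (G ≃* Cfsg.PSU 3 F (2 ^ n)) ∨ (S : Subgroup G) = ⊤

/-- A group without odd core has a normal subgroup of odd index isomorphic to the unitary group, or a normal
Sylow subgroup. -/
theorem coreFree_cases {k : ℕ} (hind : RedStatement.{u} n F k) {X : Type u} [Group X] [Finite X] (SX : Sylow 2 X)
    (hk : Nat.card X ≤ k) (h : U3 (SX : Subgroup X) n) (hO : oddCore X = ⊥) :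
    (∃ N : Subgroup X, N.Normal ∧ Odd N.index ∧ (SX : Subgroup X) ≤ N ∧ Nonempty (↥N ≃* Cfsg.PSU 3 F (2 ^ n))) ∨
      (SX : Subgroup X).Normal := by
  haveI : Fact (Nat.Prime 2) := ⟨Nat.prime_two⟩
  set L := pElementClosure 2 (⊤ : Subgroup X) with hLdef
  haveI hLn : L.Normal := by
    refine ⟨fun x hx g => ?_⟩
    induction hx using Subgroup.closure_induction with
    | mem y hy =>
      exact Subgroup.subset_closure ⟨mem_top _, by simpa [CfsgLib.Involutions.orderOf_conj] using hy.2⟩
    | one => simp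
    | mul y z _ _ hy hz => rw [← conj_mul]; exact Subgroup.mul_mem _ hy hz
    | inv y _ hy => rw [← conj_inv]; exact Subgroup.inv_mem _ hy
  have hSL : (SX : Subgroup X) ≤ L := fun s hs =>
    Subgroup.subset_closure ⟨mem_top s, isTwoEl_of_mem SX.2 hs⟩
  have hLi : Odd L.index := Nat.not_even_iff_odd.mp fun he =>
    SX.not_dvd_index ((even_iff_two_dvd.mp he).trans (Subgroup.index_dvd_of_le hSL))
  have hLh : U3 (SX.subtype hSL : Subgroup L) n := h.of_equiv (by
    rw [Sylow.coe_subtype]; exact (subgroupOfEquivOfLe hSL).symm)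
  have hLO : oddCore L = ⊥ := by
    rw [eq_bot_iff_forall]
    intro x hx
    exact Subtype.ext (mem_bot.mp (hO ▸ CfsgLib.map_pPrimeCore_le 2 L (mem_map_of_mem L.subtype hx)))
  have hLodd : ∀ N : Subgroup L, N.Normal → Odd N.index → N = ⊤ := by
    intro N hN hNi
    haveI := hN
    have hle : L ≤ N.map L.subtype := by
      refine (Subgroup.closure_le _).mpr ?_
      rintro y ⟨-, j, hj⟩
      have hyL : y ∈ L := Subgroup.subset_closure ⟨mem_top y, j, hj⟩
      refine ⟨⟨y, hyL⟩, (QuotientGroup.eq_one_iff _).mp (orderOf_eq_one_iff.mp ?_), rfl⟩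
      refine Nat.eq_one_of_dvd_coprimes ((Nat.coprime_two_left.mpr hNi).pow_left j) ?_ (orderOf_dvd_natCard _)
      rw [← hj, ← Subgroup.orderOf_mk (H := L) y hyL]
      exact orderOf_map_dvd (QuotientGroup.mk' N) _
    refine eq_top_iff.mpr fun x _ => ?_
    obtain ⟨y, hy, e⟩ := hle x.2
    exact Subtype.ext e ▸ hy
  rcases hind L (SX.subtype hSL) ((card_subgroup_dvd_card L |> Nat.le_of_dvd Nat.card_pos).trans hk) hLh hLO hLodd
    with hiso | htop
  · exact Or.inl ⟨L, hLn, hLi, hSL, hiso⟩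
  · right
    have e : L = (SX : Subgroup X) := le_antisymm (fun x hx =>
      (show (⟨x, hx⟩ : L) ∈ (SX.subtype hSL : Subgroup L) from htop.ge (mem_top _))) hSL
    exact e ▸ hLn

/-- The Sylow subgroup modulo the odd core. -/
theorem u3_quotient {G : Type u} [Group G] [Finite G] {S : Sylow 2 G} (h : U3 (S : Subgroup G) n) (O : Subgroup G)
    [O.Normal] (hO : Odd (Nat.card O)) :
    U3 (S.mapSurjective (f := QuotientGroup.mk' O) (QuotientGroup.mk'_surjective O) : Subgroup (G ⧸ O)) n := by
  haveI : Fact (Nat.Prime 2) := ⟨Nat.prime_two⟩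
  let φ := (QuotientGroup.mk' O).comp (S : Subgroup G).subtype
  have hφ : Function.Injective φ := by
    rw [← MonoidHom.ker_eq_bot_iff, eq_bot_iff_forall]
    intro w hw
    obtain ⟨i, hi⟩ := isTwoEl_of_mem S.2 w.2
    exact Subtype.ext (orderOf_eq_one_iff.mp (Nat.eq_one_of_dvd_coprimes
      ((Nat.coprime_two_left.mpr hO).pow_left i) (hi ▸ dvd_rfl)
      (Subgroup.orderOf_dvd_natCard _ ((QuotientGroup.eq_one_iff _).mp hw))))
  refine h.of_equiv ((MonoidHom.ofInjective hφ).trans (MulEquiv.subgroupCongr ?_))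
  rw [MonoidHom.range_comp, Subgroup.range_subtype]
  rfl

/-- Centralizers of non-central involutions of the centre, by induction. -/
theorem cent_structure {k : ℕ} (hind : RedStatement.{u} n F k) (hn : 2 ≤ n) (hF : Fintype.card F = 4 ^ n)
    {G : Type u} [Group G] [Finite G] {S : Sylow 2 G} (h : U3 (S : Subgroup G) n) (hk : Nat.card G ≤ k + 1)
    {b : G} (hb : b ∈ zee S) (hbc : b ∉ center G) :
    Group.IsSolvable ↥(centralizer ({b} : Set G)) ∧
      centralizer ({b} : Set G) ≤ theta b ⊔ normalizer ((S : Subgroup G) : Set G) := by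
  classical
  haveI : Fact (Nat.Prime 2) := ⟨Nat.prime_two⟩
  set C := centralizer ({b} : Set G) with hC
  have hSC : (S : Subgroup G) ≤ C := sylow_le_cent_single hb
  set SC := S.subtype hSC
  have hSCh : U3 (SC : Subgroup C) n := h.of_equiv (by
    rw [Sylow.coe_subtype]; exact (subgroupOfEquivOfLe hSC).symm)
  set O := oddCore C with hOdef
  have hOodd : Odd (Nat.card O) := CfsgLib.odd_card_oddCore
  set π := QuotientGroup.mk' O
  set SX := SC.mapSurjective (f := π) (QuotientGroup.mk'_surjective O)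
  have hXk : Nat.card (C ⧸ O) ≤ k := by
    have h1 : Nat.card (C ⧸ O) ≤ Nat.card C := Nat.le_of_dvd Nat.card_pos (card_quotient_dvd_card O)
    have h2 : Nat.card C < Nat.card G := by
      refine lt_of_le_of_ne (Nat.le_of_dvd Nat.card_pos (card_subgroup_dvd_card C)) fun e => hbc ?_
      have htop : C = ⊤ := Subgroup.eq_top_of_card_eq C e
      exact mem_center_iff.mpr fun g => commute_of_mem_cent (htop.ge (mem_top g))
    omega
  have hnormal : (SX : Subgroup (C ⧸ O)).Normal := by
    refine (coreFree_cases hind SX hXk (u3_quotient hSCh O hOodd) (CfsgLib.pPrimeCore_quotient_eq_bot 2)).resolve_left ?_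
    rintro ⟨N, -, -, hSN, ⟨e⟩⟩
    have hbC : b ∈ C := mem_cent_of_commute rfl
    have hbX : π ⟨b, hbC⟩ ∈ (SX : Subgroup (C ⧸ O)) :=
      mem_map_of_mem π (show (⟨b, hbC⟩ : C) ∈ (SC : Subgroup C) from zee_le S hb)
    have hcen : (⟨π ⟨b, hbC⟩, hSN hbX⟩ : N) ∈ center N := mem_center_iff.mpr fun y => Subtype.ext (by
      obtain ⟨w, hw⟩ := QuotientGroup.mk'_surjective O (y : C ⧸ O)
      show (y : C ⧸ O) * π ⟨b, hbC⟩ = π ⟨b, hbC⟩ * y
      rw [← hw, ← map_mul, ← map_mul]
      exact congrArg π (Subtype.ext (commute_of_mem_cent w.2)))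
    have h1 : e ⟨π ⟨b, hbC⟩, hSN hbX⟩ ∈ center (Cfsg.PSU 3 F (2 ^ n)) := mem_center_iff.mpr fun y => by
      obtain ⟨y, rfl⟩ := e.surjective y
      rw [← map_mul, ← map_mul, mem_center_iff.mp hcen y]
    rw [center_psu hn hF, mem_bot, MulEquiv.map_eq_one_iff] at h1
    have hbO : (⟨b, hbC⟩ : C) ∈ O := (QuotientGroup.eq_one_iff _).mp (congrArg Subtype.val h1)
    have hb1 : b ≠ 1 := fun e => hbc (e ▸ one_mem _)
    have := Subgroup.orderOf_dvd_natCard _ hbO
    rw [Subgroup.orderOf_mk, IsInvol.orderOf_eq ⟨hb1, zee_sq h hb⟩] at this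
    exact Nat.not_even_iff_odd.mpr hOodd (even_iff_two_dvd.mpr this)
  haveI := hnormal
  constructor
  · refine isSolvable_of_ext O (Cfsg.Agent.S0205.result hOodd) (isSolvable_of_ext (SX : Subgroup (C ⧸ O)) ?_
      (Cfsg.Agent.S0205.result ?_))
    · haveI := SX.2.isNilpotent
      infer_instance
    · exact Nat.not_even_iff_odd.mp fun he => SX.not_dvd_index (by
        rw [Subgroup.index_eq_card]; exact even_iff_two_dvd.mp he)
  · intro g hg
    set K := ((SX : Subgroup (C ⧸ O))).comap π
    have hSK : (SC : Subgroup C) ≤ K := fun t ht => mem_map_of_mem π ht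
    have hfr : normalizer ((SC : Subgroup C) : Set C) ⊔ K = ⊤ := Sylow.normalizer_sup_eq_top' SC hSK
    have hle : normalizer ((SC : Subgroup C) : Set C) ⊔ K ≤
        (theta b ⊔ normalizer ((S : Subgroup G) : Set G)).comap C.subtype := by
      refine sup_le (fun w hw => mem_sup_right ?_) ?_
      · exact CfsgLib.Comp.mem_normalizer_of_maps fun y hy =>
          (mem_normalizer_iff.mp hw ⟨y, hSC hy⟩).mp hy
      · rintro w ⟨t, ht, e⟩
        have h1 : w * t⁻¹ ∈ O := (QuotientGroup.eq_one_iff _).mp (by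
          show π (w * t⁻¹) = 1
          rw [map_mul, map_inv, e, mul_inv_cancel])
        have h2 : ((w * t⁻¹ : C) : G) ∈ theta b := ⟨w * t⁻¹, h1, rfl⟩
        have h3 : (t : G) ∈ normalizer ((S : Subgroup G) : Set G) := le_normalizer (show (t : G) ∈ (S : Subgroup G) from ht)
        have := mul_mem (mem_sup_left (T := normalizer ((S : Subgroup G) : Set G)) h2)
          (mem_sup_right (S := theta b) h3)
        show (w : G) ∈ theta b ⊔ normalizer ((S : Subgroup G) : Set G)
        rwa [Subgroup.coe_mul, Subgroup.coe_inv, inv_mul_cancel_right] at this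
    exact hle (hfr.ge (mem_top ⟨g, hg⟩))

/-- **The reduced theorem.** -/
theorem red (hn : 3 ≤ n) (hF : Fintype.card F = 4 ^ n) : ∀ k, RedStatement.{u} n F k := by
  intro k
  induction k with
  | zero =>
    intro G _ _ S hk
    exact absurd hk (by have := Nat.card_pos (α := G); omega)
  | succ k ih =>
    intro G _ _ S hk h hO hodd
    by_cases hst : (S : Subgroup G) = ⊤
    · exact Or.inr hst
    have hc : Cfg S n := ⟨h, hn, hO, hodd, fun b hb hbc => (cent_structure ih (by omega) hF h hk hb hbc).1,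
      fun b hb hbc => (cent_structure ih (by omega) hF h hk hb hbc).2⟩
    obtain ⟨b, hb, hbc⟩ := hc.central_or.resolve_right hst
    by_cases hR : ∀ a ∈ zee S, a ≠ 1 → a ∉ center G
    · have hbot : zee S ⊓ center G = ⊥ := by
        rw [eq_bot_iff_forall]
        exact fun a ha => by_contra fun ha1 => hR a ha.1 ha1 ha.2
      have hoddW := hc.odd_cores (by
        rw [hbot, card_bot, mul_one, show 8 = 2 ^ 3 from rfl]
        exact Nat.pow_le_pow_right two_pos hn)
      exact Or.inl (of_stronglyEmbedded h hn hO hodd (hc.strongly hR (hc.big_ne_top hoddW hst)) hF)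
    push Not at hR
    obtain ⟨a, ha, ha1, hac⟩ := hR
    exfalso
    rcases show n = 3 ∨ n = 4 ∨ 5 ≤ n by omega with rfl | rfl | h5
    · exact hc.not_partly_central_three ha ha1 hac hb hbc
    · obtain ⟨w, hw, hwo, hwm⟩ := hc.exists_moving hb hbc
      have h4 := pow_fix h ha ha1 hac hw
      rw [show 4 = 2 * 2 from rfl, pow_mul] at h4
      exact hwm (CfsgLib.U34Char.mem_of_sq_mem hwo (CfsgLib.U34Char.mem_of_sq_mem
        (hwo.of_dvd_nat (orderOf_pow_dvd 2)) h4))
    · exact hc.not_partly_central h5 ha ha1 hac hb hbc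

/-- **The structure theorem.** -/
theorem structure_theorem (hn : 3 ≤ n) (hF : Fintype.card F = 4 ^ n) {G : Type u} [Group G] [Finite G]
    (S : Sylow 2 G) (h : U3 (S : Subgroup G) n) :
    (∃ N : Subgroup (G ⧸ oddCore G), N.Normal ∧ Odd N.index ∧ Nonempty (↥N ≃* Cfsg.PSU 3 F (2 ^ n))) ∨
      Group.IsSolvable G ∧ PLengthLE 2 1 G := by
  classical
  haveI : Fact (Nat.Prime 2) := ⟨Nat.prime_two⟩
  set O := oddCore G with hOdef
  set SX := S.mapSurjective (f := QuotientGroup.mk' O) (QuotientGroup.mk'_surjective O)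
  rcases coreFree_cases (red hn hF (Nat.card (G ⧸ O))) SX le_rfl (u3_quotient h O CfsgLib.odd_card_oddCore)
      (CfsgLib.pPrimeCore_quotient_eq_bot 2) with ⟨N, h1, h2, -, h4⟩ | hN
  · exact Or.inl ⟨N, h1, h2, h4⟩
  right
  haveI := hN
  refine ⟨isSolvable_of_ext O (Cfsg.Agent.S0205.result CfsgLib.odd_card_oddCore)
    (isSolvable_of_ext (SX : Subgroup (G ⧸ O)) ?_ (Cfsg.Agent.S0205.result ?_)), ?_⟩
  · haveI := SX.2.isNilpotent
    infer_instance
  · exact Nat.not_even_iff_odd.mp fun he => SX.not_dvd_index (by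
      rw [Subgroup.index_eq_card]; exact even_iff_two_dvd.mp he)
  -- the upper series
  have h1 : O ≤ (upperPSeries 2 G 1).1 := by
    intro g hg
    simp only [upperPSeries, Even.zero, if_true]
    show QuotientGroup.mk' (⊥ : Subgroup G) g ∈ pPrimeCore 2 (G ⧸ (⊥ : Subgroup G))
    refine CfsgLib.le_pPrimeCore (N := O.map (QuotientGroup.mk' (⊥ : Subgroup G)))
      (hN := Subgroup.Normal.map inferInstance _ (QuotientGroup.mk'_surjective _)) ?_ (mem_map_of_mem _ hg)
    exact Nat.coprime_two_right.mpr (CfsgLib.odd_card_oddCore.of_dvd_nat (card_map_dvd _ _))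
  have h2 : (S : Subgroup G) ≤ (upperPSeries 2 G 2).1 := by
    intro g hg
    have hne : ¬ Even 1 := by decide
    rw [upperPSeries]
    simp only [hne, if_false]
    set U := (upperPSeries 2 G 1).1
    show QuotientGroup.mk' U g ∈ pCore 2 (G ⧸ U)
    haveI : ((S : Subgroup G).map (QuotientGroup.mk' U)).Normal := by
      have e : (S : Subgroup G).map (QuotientGroup.mk' U) =
          ((SX : Subgroup (G ⧸ O))).map (QuotientGroup.map O U (MonoidHom.id G) h1) := by
        rw [Sylow.coe_mapSurjective, Subgroup.map_map]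
        rfl
      rw [e]
      refine Subgroup.Normal.map inferInstance _ fun q => ?_
      obtain ⟨w, rfl⟩ := QuotientGroup.mk'_surjective U q
      exact ⟨QuotientGroup.mk' O w, rfl⟩
    exact CfsgLib.le_pCore (S.2.map _) (mem_map_of_mem _ hg)
  show (upperPSeries 2 G 3).1 = ⊤
  rw [eq_top_iff]
  intro g _
  rw [upperPSeries]
  simp only [even_two, if_true]
  set U := (upperPSeries 2 G 2).1
  show QuotientGroup.mk' U g ∈ pPrimeCore 2 (G ⧸ U)
  refine CfsgLib.le_pPrimeCore (N := (⊤ : Subgroup (G ⧸ U))) (Nat.coprime_two_right.mpr ?_) (mem_top _)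
  rw [Subgroup.card_top, ← Subgroup.index_eq_card]
  exact Nat.not_even_iff_odd.mp fun he =>
    S.not_dvd_index ((even_iff_two_dvd.mp he).trans (Subgroup.index_dvd_of_le h2))

end CfsgLib.U3Type
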