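import Cfsg.Agent.Lib.U3Type.Basic
import Cfsg.Agent.Lib.UnitarySylowAut
import Cfsg.Agent.S0280
import Cfsg.Agent.S0283

/-!
The Sylow `2`-subgroups of `PSU(3, 2ⁿ)` have the structure, and these groups have no central involution.
-/

set_option autoImplicit false
set_option linter.unusedSectionVars false

namespace CfsgLib.U3Type

open Subgroup Cfsg

theorem u3_psu {n : ℕ} (hn : 1 ≤ n) {F : Type} [Field F] [Fintype F] (hF : Fintype.card F = 4 ^ n)
    (P : Sylow 2 (Cfsg.PSU 3 F (2 ^ n))) : U3 (P : Subgroup (Cfsg.PSU 3 F (2 ^ n))) n := by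
  classical
  haveI : Fact (Nat.Prime 2) := ⟨Nat.prime_two⟩
  haveI : CharP F 2 := charP_of_card_eq_prime_pow (f := 2 * n)
    (by rw [hF, pow_mul]; norm_num)
  have hF' : Fintype.card F = (2 ^ n) ^ 2 := by rw [hF, ← pow_mul, mul_comm, pow_mul]; norm_num
  let S0 : Sylow 2 ↥(Cfsg.SU 3 F (2 ^ n)) := Classical.arbitrary _
  obtain ⟨c, ⟨M⟩⟩ := CfsgLib.UnitarySylowAut.exists_model hn hF' S0
  have h := u3_of_model M hF
  let φ := (QuotientGroup.mk' (Subgroup.center ↥(Cfsg.SU 3 F (2 ^ n)))).comp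
    (S0 : Subgroup ↥(Cfsg.SU 3 F (2 ^ n))).subtype
  have hφ : Function.Injective φ := by
    rw [← MonoidHom.ker_eq_bot_iff, Subgroup.eq_bot_iff_forall]
    intro x hx
    have hz : (x : ↥(Cfsg.SU 3 F (2 ^ n))) ∈ Subgroup.center ↥(Cfsg.SU 3 F (2 ^ n)) :=
      (QuotientGroup.eq_one_iff _).1 hx
    have h1 := Subgroup.orderOf_dvd_natCard _ hz
    rw [Cfsg.Agent.S0280.center_card hF' 3 (by norm_num)] at h1
    obtain ⟨k, hk⟩ := (IsPGroup.iff_orderOf.1 S0.isPGroup') x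
    have h2 : orderOf (x : ↥(Cfsg.SU 3 F (2 ^ n))) ∣ 2 ^ k := by rw [Subgroup.orderOf_coe, hk]
    have h4 : orderOf (x : ↥(Cfsg.SU 3 F (2 ^ n))) = 1 :=
      Nat.eq_one_of_dvd_coprimes ((by norm_num : Nat.Coprime 2 3).pow_left k) h2 (h1.trans (Nat.gcd_dvd_left _ _))
    exact Subtype.ext (orderOf_eq_one_iff.1 h4)
  let P0 := S0.mapSurjective (QuotientGroup.mk'_surjective (Subgroup.center ↥(Cfsg.SU 3 F (2 ^ n))))
  have hr : φ.range = (P0 : Subgroup (Cfsg.PSU 3 F (2 ^ n))) := by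
    rw [MonoidHom.range_comp, Subgroup.range_subtype]
    rfl
  exact h.of_equiv ((MonoidHom.ofInjective hφ).trans ((MulEquiv.subgroupCongr hr).trans (Sylow.equiv P0 P)))

/-- `PSU(3, 2ⁿ)` has no non-trivial centre for `n ≥ 2`. -/
theorem center_psu {n : ℕ} (hn : 2 ≤ n) {F : Type} [Field F] [Fintype F] (hF : Fintype.card F = 4 ^ n) :
    center (Cfsg.PSU 3 F (2 ^ n)) = ⊥ := by
  have hF' : Fintype.card F = (2 ^ n) ^ 2 := by rw [hF, ← pow_mul, mul_comm, pow_mul]; norm_num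
  haveI hs : IsSimpleGroup (Cfsg.PSU 3 F (2 ^ n)) := Cfsg.Agent.S0283.result hF' 3 le_rfl fun h => by
    have := Nat.pow_le_pow_right (show 0 < 2 by norm_num) hn
    omega
  refine (hs.eq_bot_or_eq_top_of_normal (center _) inferInstance).resolve_right fun htop => ?_
  haveI : Fact (Nat.Prime 2) := ⟨Nat.prime_two⟩
  obtain ⟨P⟩ : Nonempty (Sylow 2 (Cfsg.PSU 3 F (2 ^ n))) := inferInstance
  obtain ⟨u, hu, huZ⟩ := exists_noncentral (u3_psu (by omega) hF P) (by omega)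
  refine huZ (mem_zee.mpr ⟨hu, mem_center_iff.mpr fun y => Subtype.ext ?_⟩)
  exact mem_center_iff.mp (htop.ge (mem_top u)) y

end CfsgLib.U3Type
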