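import Cfsg.Agent.Lib.U3Type.PSU
import Cfsg.Agent.Lib.Bender.GoodAll
import Cfsg.Agent.Lib.BinaryCoset.Families
import Cfsg.Agent.Lib.CIT.Structure
import Cfsg.Agent.Lib.SUShort.Counts
import Cfsg.Agent.S1163

/-!
A group with a Sylow `2`-subgroup of unitary type and a strongly embedded subgroup.
-/

set_option autoImplicit false
set_option linter.unusedSectionVars false
set_option linter.style.haveILetI false

namespace CfsgLib.U3Type

open Subgroup Cfsg CfsgLib.HallE8 CfsgLib.ZCReduction CfsgLib.PiClosedTwo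

universe u

variable {G : Type u} [Group G] [Finite G]

theorem pElementClosure_eq_top (hodd : ∀ N : Subgroup G, N.Normal → Odd N.index → N = ⊤) :
    pElementClosure 2 (⊤ : Subgroup G) = ⊤ := by
  haveI : Fact (Nat.Prime 2) := ⟨Nat.prime_two⟩
  obtain ⟨S⟩ : Nonempty (Sylow 2 G) := inferInstance
  refine hodd _ ⟨fun x hx g => ?_⟩ (Nat.not_even_iff_odd.mp fun he => S.not_dvd_index
    ((even_iff_two_dvd.mp he).trans (Subgroup.index_dvd_of_le fun s hs =>
      Subgroup.subset_closure ⟨mem_top s, isTwoEl_of_mem S.2 hs⟩)))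
  induction hx using Subgroup.closure_induction with
  | mem y hy => exact Subgroup.subset_closure ⟨mem_top _, by simpa [CfsgLib.Involutions.orderOf_conj] using hy.2⟩
  | one => simp
  | mul y z _ _ hy hz => rw [← conj_mul]; exact Subgroup.mul_mem _ hy hz
  | inv y _ hy => rw [← conj_inv]; exact Subgroup.inv_mem _ hy

/-- Transitivity of the normalizer on the involutions of the centre gives a divisor of the order. -/
theorem dvd_of_transitive {S : Sylow 2 G} {n : ℕ} (h : U3 (S : Subgroup G) n) (hn : 1 ≤ n)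
    (htr : ∀ a ∈ zee S, a ≠ 1 → ∀ b ∈ zee S, b ≠ 1 → ∃ g : G, g * a * g⁻¹ = b) :
    2 ^ n - 1 ∣ Nat.card G := by
  classical
  obtain ⟨a, ha, ha1⟩ := exists_invol h hn
  set N := normalizer ((S : Subgroup G) : Set G)
  have hor : MulAction.orbit (ConjAct.toConjAct.toMonoidHom.comp N.subtype).range a = (zee S : Set G) \ {1} := by
    ext w
    constructor
    · rintro ⟨⟨_, g, rfl⟩, rfl⟩
      show (g : G) * a * (g : G)⁻¹ ∈ _
      exact ⟨(mem_normalizer_iff.mp (sylow_normalizer_le h g.2) a).mp ha, fun e => ha1 (conj_eq_one_iff.mp e)⟩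
    · rintro ⟨hw, hw1⟩
      obtain ⟨g, hg⟩ := htr a ha ha1 w hw hw1
      obtain ⟨c, hc, hn'⟩ := exists_fusion h ha ha1 (show g * a * g⁻¹ ∈ (S : Subgroup G) from hg ▸ zee_le S hw)
      refine ⟨⟨_, ⟨c * g, hn'⟩, rfl⟩, ?_⟩
      show c * g * a * (c * g)⁻¹ = w
      rw [show c * g * a * (c * g)⁻¹ = c * (g * a * g⁻¹) * c⁻¹ by group, commute_of_mem_cent hc,
        mul_inv_cancel_right, hg]
  have hcard : Nat.card (MulAction.orbit (ConjAct.toConjAct.toMonoidHom.comp N.subtype).range a) = 2 ^ n - 1 := by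
    rw [hor, Nat.card_coe_set_eq, Set.ncard_sdiff_singleton_of_mem (one_mem (zee S)), ← Nat.card_coe_set_eq,
      SetLike.coe_sort_coe, card_zee h]
  rw [← hcard]
  refine (Nat.card_congr (MulAction.orbitEquivQuotientStabilizer _ a)).dvd.trans ?_
  refine (card_quotient_dvd_card _).trans ((card_subgroup_dvd_card _).trans ?_)
  exact (Nat.card_congr ConjAct.toConjAct.toEquiv).symm.dvd

/-- **Recognition** of the group from a strongly embedded subgroup. -/
theorem of_stronglyEmbedded {S : Sylow 2 G} {n : ℕ} (h : U3 (S : Subgroup G) n) (hn : 3 ≤ n)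
    (hO : oddCore G = ⊥) (hodd : ∀ N : Subgroup G, N.Normal → Odd N.index → N = ⊤) {M : Subgroup G}
    (hM : IsStronglyPEmbedded 2 M) {F : Type} [Field F] [Fintype F] (hF : Fintype.card F = 4 ^ n) :
    Nonempty (G ≃* Cfsg.PSU 3 F (2 ^ n)) := by
  classical
  haveI : Fact (Nat.Prime 2) := ⟨Nat.prime_two⟩
  have hbij : Function.Bijective (QuotientGroup.mk' (pPrimeCore 2 G)) :=
    ⟨fun x y e => by
      have : x⁻¹ * y ∈ pPrimeCore 2 G := QuotientGroup.eq.mp e
      rw [show pPrimeCore 2 G = ⊥ from hO, mem_bot] at this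
      exact inv_mul_eq_one.mp this, QuotientGroup.mk'_surjective _⟩
  let eG := MulEquiv.ofBijective _ hbij
  have hodd' : ∀ N : Subgroup (G ⧸ pPrimeCore 2 G), N.Normal → Odd N.index → N = ⊤ := by
    intro N hN hi
    have h1 := hodd (N.comap eG.toMonoidHom) inferInstance
      (by rw [N.index_comap_of_surjective (f := eG.toMonoidHom) eG.surjective]; exact hi)
    refine Subgroup.comap_injective eG.surjective (h1.trans (Subgroup.comap_top _).symm)
  have hT := pElementClosure_eq_top hodd'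
  let eL : ↥(pElementClosure 2 (⊤ : Subgroup (G ⧸ pPrimeCore 2 G))) ≃* G :=
    (MulEquiv.subgroupCongr hT).trans (Subgroup.topEquiv.trans eG.symm)
  obtain ⟨a, ha, ha1⟩ := exists_invol h (by omega)
  rcases CfsgLib.Bender.general (CfsgLib.Bender.Assembly.benderHyp CfsgLib.Bender.Assembly.goodAll)
      CfsgLib.Bender.Assembly.suzukiHyp hM with hR | ⟨K, iK, iKt, hK2, -, ⟨e⟩⟩ |
    ⟨K, iK, iKt, q, hqe, hq4, hK, ⟨e⟩⟩ | hsz
  · exfalso
    obtain ⟨b, hb, hbne⟩ := exists_zee_notMem h {1, a} (by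
      refine lt_of_le_of_lt (Set.ncard_insert_le _ _) ?_
      rw [Set.ncard_singleton]
      have := Nat.pow_le_pow_right (show 0 < 2 by norm_num) hn
      omega)
    simp only [Set.mem_insert_iff, Set.mem_singleton_iff, not_or] at hbne
    exact hbne.2 ((hR a (IsInvol.orderOf_eq ⟨ha1, zee_sq h ha⟩)).2 b
      (sylow_le_cent_single ha (zee_le S hb)) (IsInvol.orderOf_eq ⟨hbne.1, zee_sq h hb⟩))
  · exfalso
    obtain ⟨k, -, hk⟩ := FiniteField.card K 2
    obtain ⟨u, hu, huZ⟩ := exists_noncentral h (by omega)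
    obtain ⟨j, hj⟩ := isTwoEl_of_mem S.2 hu
    exact huZ (mem_zee_of_sq h hu (CfsgLib.BinaryCoset.elementary_sl hk (eL.symm.trans e)
      ⟨j, by rw [← hj, pow_orderOf_eq_one]⟩))
  · obtain ⟨k, hk2, hk⟩ : ∃ k, 2 ≤ k ∧ q = 2 ^ k := by
      obtain ⟨r, hr⟩ := CharP.exists K
      obtain ⟨f, hp, hf⟩ := FiniteField.card K r
      have h2 : r = 2 := (Nat.prime_eq_prime_of_dvd_pow Nat.prime_two hp (m := f)
        (by rw [← hf, hK]; exact dvd_pow (even_iff_two_dvd.mp hqe) two_ne_zero)).symm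
      subst h2
      obtain ⟨k, -, hk⟩ := (Nat.dvd_prime_pow Nat.prime_two).mp
        ((dvd_pow_self q two_ne_zero).trans (dvd_of_eq (hK.symm.trans hf)))
      refine ⟨k, ?_, hk⟩
      by_contra hlt
      interval_cases k <;> simp_all
    subst hk
    have hK' : Fintype.card K = 4 ^ k := by rw [hK, ← pow_mul, mul_comm, pow_mul]; norm_num
    let e' : G ≃* Cfsg.PSU 3 K (2 ^ k) := eL.symm.trans e
    let P' : Sylow 2 (Cfsg.PSU 3 K (2 ^ k)) := S.mapSurjective (f := e'.toMonoidHom) e'.surjective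
    have h1 := (u3_psu (by omega) hK' P').card
    rw [show Nat.card (P' : Subgroup (Cfsg.PSU 3 K (2 ^ k))) = Nat.card (S : Subgroup G) from
      card_map_of_injective e'.injective, h.card] at h1
    have hkn : k = n := by
      have := Nat.pow_right_injective le_rfl h1
      omega
    subst hkn
    obtain ⟨ec⟩ := CfsgLib.SUShort.psu_congr (FiniteField.ringEquivOfCardEq (hK'.trans hF.symm)) 3 (2 ^ k)
    exact ⟨e'.trans ec⟩
  · exfalso
    obtain ⟨K, iK, iKt, m, hm, hc, ⟨e⟩⟩ := hsz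
    have hG : Nat.card G = Nat.card ↥(Cfsg.Lie.Sz K (2 ^ (m + 1))) :=
      Nat.card_congr (eL.symm.trans e).toEquiv
    rw [(Cfsg.Agent.S1163.result hm hc).1] at hG
    set Q := 2 ^ (2 * m + 1) with hQ
    have hQ2 : 2 ∣ Q := dvd_pow_self 2 (by omega)
    have hQ1 : 2 ≤ Q := Nat.le_of_dvd (by positivity) hQ2
    -- compare the parts of even order
    have hodd2 : Odd ((Q - 1) * (Q ^ 2 + 1)) := by
      obtain ⟨t, ht⟩ := hQ2
      refine Odd.mul ⟨t - 1, by omega⟩ ⟨2 * t * t, ?_⟩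
      rw [ht]; ring
    have hne : (Q - 1) * (Q ^ 2 + 1) ≠ 0 := hodd2.pos.ne'
    have h1 : 3 * n = 2 * (2 * m + 1) := by
      have hS := S.card_eq_multiplicity
      rw [h.card, hG, mul_assoc, Nat.factorization_mul (by positivity) hne, Finsupp.add_apply,
        Nat.factorization_eq_zero_of_not_dvd (fun hd => Nat.not_even_iff_odd.mpr hodd2 (even_iff_two_dvd.mpr hd)),
        add_zero, hQ, ← pow_mul, Nat.factorization_pow, Finsupp.smul_apply,
        Nat.Prime.factorization_self Nat.prime_two, smul_eq_mul, mul_one] at hS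
      have := Nat.pow_right_injective le_rfl hS
      rw [this]; ring
    have hSE := CfsgLib.Bender.isStronglyEmbedded_of_two hM
    obtain ⟨P, hP⟩ := CfsgLib.StronglyEmbedded.exists_sylow_le hM
    obtain ⟨g, hg⟩ := MulAction.exists_smul_eq G S P
    have hin : ∀ z ∈ zee S, g * z * g⁻¹ ∈ M := fun z hz => hP (by
      rw [← hg, Sylow.coe_subgroup_smul]
      exact smul_mem_pointwise_smul z (MulAut.conj g) (S : Subgroup G) (zee_le S hz))
    have hdvd := dvd_of_transitive h (by omega) fun a ha ha1 b hb hb1 => by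
      obtain ⟨x, -, hx⟩ := CfsgLib.CIT.conj_of_stronglyEmbedded hSE (hin a ha)
        (IsInvol.orderOf_eq (IsInvol.conj ⟨ha1, zee_sq h ha⟩ g)) (hin b hb)
        (IsInvol.orderOf_eq (IsInvol.conj ⟨hb1, zee_sq h hb⟩ g))
      refine ⟨g⁻¹ * x * g, ?_⟩
      calc g⁻¹ * x * g * a * (g⁻¹ * x * g)⁻¹ = g⁻¹ * (x * (g * a * g⁻¹) * x⁻¹) * g := by group
        _ = b := by rw [hx]; group
    obtain ⟨t, ht⟩ : ∃ t, n = 2 * t := ⟨n / 2, by omega⟩
    have h3 : 3 ∣ 2 ^ n - 1 := by
      rw [ht, pow_mul]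
      simpa using Nat.sub_dvd_pow_sub_pow 4 1 t
    have h3G := h3.trans hdvd
    rw [hG] at h3G
    have hQ3 : Q % 3 = 2 := by rw [hQ, pow_succ, pow_mul, Nat.mul_mod, Nat.pow_mod]; norm_num
    have e2 : Q ^ 2 % 3 = 1 := by rw [Nat.pow_mod, hQ3]
    rcases (Nat.Prime.dvd_mul Nat.prime_three).mp h3G with q | q
    · rcases (Nat.Prime.dvd_mul Nat.prime_three).mp q with q' | q' <;> omega
    · omega

end CfsgLib.U3Type
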